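import Mathlib.CategoryTheory.Localization.CalculusOfFractions
import Mathlib.CategoryTheory.Functor.Derived.PointwiseRightDerived
import Mathlib.CategoryTheory.Functor.Derived.PointwiseLeftDerived

/-! Pointwise derived functors from resolutions by a class of objects on which the functor
inverts weak equivalences, when the weak equivalences of an intermediate category have a
calculus of fractions. -/

universe v₁ v₂ v₃ v₄ u₁ u₂ u₃ u₄

open CategoryTheory CategoryTheory.Limits

set_option backward.defeqAttrib.useBackward true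
set_option backward.isDefEq.respectTransparency false

namespace Groth.L10.CdDim

variable {C : Type u₁} {K : Type u₂} {D : Type u₃} {H : Type u₄} [Category.{v₁} C] [Category.{v₂} K]
  [Category.{v₃} D] [Category.{v₄} H]
  (π : C ⥤ K) [π.Full] (L : K ⥤ D) (W : MorphismProperty K) [L.IsLocalization W]
  (F : C ⥤ H) (hF : ∀ {X Y : C} (g g' : X ⟶ Y), π.map g = π.map g' → F.map g = F.map g')
  (P : ObjectProperty C)
  (hW : ∀ {X Y : C} (s : X ⟶ Y), P X → P Y → W (π.map s) → IsIso (F.map s))

section Right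

variable [W.HasLeftCalculusOfFractions]
  (hres : ∀ Z : K, ∃ (X : C) (s : Z ⟶ π.obj X), W s ∧ P X)

include hres in
/-- A morphism to an object of the class is a fraction through the class. -/
theorem exists_frac {Y X : C} (φ : L.obj (π.obj Y) ⟶ L.obj (π.obj X)) :
    ∃ (Z : C) (g : Y ⟶ Z) (s : X ⟶ Z), W (π.map s) ∧ P Z ∧ φ ≫ L.map (π.map s) = L.map (π.map g) := by
  obtain ⟨f, hf⟩ := Localization.exists_leftFraction L W φ
  obtain ⟨Z, t, ht, hZ⟩ := hres f.Y'
  obtain ⟨g, hg⟩ := π.map_surjective (f.f ≫ t)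
  obtain ⟨s, hs⟩ := π.map_surjective (f.s ≫ t)
  refine ⟨Z, g, s, hs ▸ W.comp_mem _ _ f.hs ht, hZ, ?_⟩
  rw [hg, hs, L.map_comp, L.map_comp, hf, MorphismProperty.LeftFraction.map_comp_map_s_assoc]

include hF hW hres in
theorem frac_eq {Y X Z Z' : C} (hX : P X) (g : Y ⟶ Z) (s : X ⟶ Z) (hs : W (π.map s)) (hZ : P Z)
    (g' : Y ⟶ Z') (s' : X ⟶ Z') (hs' : W (π.map s')) (hZ' : P Z') (φ : L.obj (π.obj Y) ⟶ L.obj (π.obj X))
    (h : φ ≫ L.map (π.map s) = L.map (π.map g)) (h' : φ ≫ L.map (π.map s') = L.map (π.map g')) :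
    haveI := hW s hX hZ hs
    haveI := hW s' hX hZ' hs'
    F.map g ≫ inv (F.map s) = F.map g' ≫ inv (F.map s') := by
  obtain ⟨ψ, hψ⟩ := (MorphismProperty.RightFraction.mk (π.map s) hs (π.map s')).exists_leftFraction
  dsimp at hψ
  have heq : L.map (π.map g ≫ ψ.f) = L.map (π.map g' ≫ ψ.s) := by
    rw [L.map_comp, L.map_comp, ← h, ← h', Category.assoc, Category.assoc, ← L.map_comp, ← L.map_comp, hψ]
  obtain ⟨Z₁, r, hr, hgr⟩ := (MorphismProperty.map_eq_iff_postcomp L W _ _).1 heq
  obtain ⟨Z₂, t, ht, hZ₂⟩ := hres Z₁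
  obtain ⟨a, ha⟩ := π.map_surjective (ψ.f ≫ r ≫ t)
  obtain ⟨b, hb⟩ := π.map_surjective (ψ.s ≫ r ≫ t)
  have := hW s hX hZ hs
  have := hW s' hX hZ' hs'
  have hb' : IsIso (F.map b) := hW b hZ' hZ₂ (hb ▸ W.comp_mem _ _ ψ.hs (W.comp_mem _ _ hr ht))
  have e1 : F.map s ≫ F.map a = F.map s' ≫ F.map b := by
    rw [← F.map_comp, ← F.map_comp]
    exact hF _ _ (by rw [π.map_comp, π.map_comp, ha, hb, ← reassoc_of% hψ])
  have e2 : F.map g ≫ F.map a = F.map g' ≫ F.map b := by
    rw [← F.map_comp, ← F.map_comp]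
    exact hF _ _ (by rw [π.map_comp, π.map_comp, ha, hb, reassoc_of% hgr])
  have : IsIso (F.map a) := IsIso.of_isIso_fac_left e1
  rw [← cancel_mono (F.map s), Category.assoc, IsIso.inv_hom_id, Category.comp_id,
    ← cancel_mono (F.map a), e2, Category.assoc, Category.assoc, e1, IsIso.inv_hom_id_assoc]

/-- The value of a fraction. -/
noncomputable def fracVal {X : C} (hX : P X) {Y : C} (φ : L.obj (π.obj Y) ⟶ L.obj (π.obj X)) :
    F.obj Y ⟶ F.obj X :=
  haveI := hW _ hX (exists_frac π L W P hres φ).choose_spec.choose_spec.choose_spec.2.1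
    (exists_frac π L W P hres φ).choose_spec.choose_spec.choose_spec.1
  F.map (exists_frac π L W P hres φ).choose_spec.choose ≫
    inv (F.map (exists_frac π L W P hres φ).choose_spec.choose_spec.choose)

include hF in
theorem fracVal_eq {X : C} (hX : P X) {Y Z : C} (φ : L.obj (π.obj Y) ⟶ L.obj (π.obj X))
    (g : Y ⟶ Z) (s : X ⟶ Z) (hs : W (π.map s)) (hZ : P Z) (h : φ ≫ L.map (π.map s) = L.map (π.map g)) :
    haveI := hW s hX hZ hs
    fracVal π L W F P hW hres hX φ = F.map g ≫ inv (F.map s) :=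
  frac_eq π L W F hF P hW hres hX _ _ (exists_frac π L W P hres φ).choose_spec.choose_spec.choose_spec.1
    (exists_frac π L W P hres φ).choose_spec.choose_spec.choose_spec.2.1 g s hs hZ φ
    (exists_frac π L W P hres φ).choose_spec.choose_spec.choose_spec.2.2 h

/-- The colimit cocone at an object of the class. -/
noncomputable def fracCocone {X : C} (hX : P X) :
    Cocone (CostructuredArrow.proj (π ⋙ L) ((π ⋙ L).obj X) ⋙ F) where
  pt := F.obj X
  ι :=
    { app := fun j => fracVal π L W F P hW hres hX j.hom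
      naturality := fun j j' u => by
        obtain ⟨Z, g, s, hs, hZ, h⟩ := exists_frac π L W P hres (Y := j'.left) j'.hom
        change F.map u.left ≫ fracVal π L W F P hW hres hX j'.hom = fracVal π L W F P hW hres hX j.hom ≫ 𝟙 _
        rw [Category.comp_id, fracVal_eq π L W F hF P hW hres hX j'.hom g s hs hZ h,
          fracVal_eq π L W F hF P hW hres hX j.hom (u.left ≫ g) s hs hZ
            (by rw [← CostructuredArrow.w u, Category.assoc]; erw [h]; simp),
          ← Category.assoc, ← F.map_comp] }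

include hF in
theorem fracVal_id {X : C} (hX : P X) : fracVal π L W F P hW hres hX (𝟙 (L.obj (π.obj X))) = 𝟙 _ := by
  rw [fracVal_eq π L W F hF P hW hres hX _ (𝟙 X) (𝟙 X) (by rw [π.map_id]; exact W.id_mem _) hX (by simp)]
  simp

/-- It is a colimit cocone. -/
noncomputable def isColimitFracCocone {X : C} (hX : P X) :
    IsColimit (fracCocone π L W F hF P hW hres hX) where
  desc c := c.ι.app (CostructuredArrow.mk (𝟙 ((π ⋙ L).obj X)))
  fac c j := by
    obtain ⟨Z, g, s, hs, hZ, h⟩ := exists_frac π L W P hres (Y := j.left) j.hom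
    have := hW s hX hZ hs
    have := Localization.inverts L W _ hs
    change fracVal π L W F P hW hres hX j.hom ≫ _ = _
    rw [fracVal_eq π L W F hF P hW hres hX j.hom g s hs hZ h]
    let jZ : CostructuredArrow (π ⋙ L) ((π ⋙ L).obj X) := CostructuredArrow.mk (inv (L.map (π.map s)))
    have h₁ := c.w (CostructuredArrow.homMk (f' := jZ) g (by
      change L.map (π.map g) ≫ inv (L.map (π.map s)) = j.hom
      rw [← h, Category.assoc, IsIso.hom_inv_id, Category.comp_id]))
    have h₂ := c.w (CostructuredArrow.homMk (f := CostructuredArrow.mk (𝟙 ((π ⋙ L).obj X))) (f' := jZ) s (by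
      change L.map (π.map s) ≫ inv (L.map (π.map s)) = _
      rw [IsIso.hom_inv_id]; rfl))
    dsimp at h₁
    change F.map s ≫ c.ι.app jZ = _ at h₂
    rw [← h₁]
    erw [← h₂]
    rw [Category.assoc, IsIso.inv_hom_id_assoc]
  uniq c m hm := by
    have := hm (CostructuredArrow.mk (𝟙 ((π ⋙ L).obj X)))
    change fracVal π L W F P hW hres hX _ ≫ m = _ at this
    erw [fracVal_id π L W F hF P hW hres hX, Category.id_comp] at this
    exact this

variable {W' : MorphismProperty C} [(π ⋙ L).IsLocalization W']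
  (hπ : ∀ Y : C, ∃ (X : C) (s : Y ⟶ X), W' s ∧ P X)

include L hF hW hres in
theorem hasPointwiseRightDerivedFunctorAt {X : C} (hX : P X) :
    F.HasPointwiseRightDerivedFunctorAt W' X := by
  rw [F.hasPointwiseRightDerivedFunctorAt_iff (π ⋙ L) W']
  exact HasColimit.mk ⟨_, isColimitFracCocone π L W F hF P hW hres hX⟩

include L hF hW hres hπ in
theorem hasPointwiseRightDerivedFunctor : F.HasPointwiseRightDerivedFunctor W' := fun Y => by
  obtain ⟨X, s, hs, hX⟩ := hπ Y
  rw [F.hasPointwiseRightDerivedFunctorAt_iff_of_mem W' s hs]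
  exact hasPointwiseRightDerivedFunctorAt π L W F hF P hW hres hX

include hF hW hres hπ in
theorem isIso_app {RF : D ⥤ H} (α : F ⟶ (π ⋙ L) ⋙ RF) [RF.IsRightDerivedFunctor α W'] {X : C} (hX : P X) :
    IsIso (α.app X) := by
  have := hasPointwiseRightDerivedFunctor π L W F hF P hW hres (W' := W') hπ
  let h₁ := (Functor.isPointwiseLeftKanExtensionOfHasPointwiseRightDerivedFunctor (F := F) (L := π ⋙ L)
    RF α W') ((π ⋙ L).obj X)
  let e := IsColimit.coconePointUniqueUpToIso (isColimitFracCocone π L W F hF P hW hres hX) h₁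
  have he := IsColimit.comp_coconePointUniqueUpToIso_hom (isColimitFracCocone π L W F hF P hW hres hX) h₁
    (CostructuredArrow.mk (𝟙 ((π ⋙ L).obj X)))
  change fracVal π L W F P hW hres hX _ ≫ e.hom = α.app X ≫ RF.map (𝟙 _) at he
  erw [fracVal_id π L W F hF P hW hres hX, Category.id_comp, RF.map_id, Category.comp_id] at he
  rw [← he]
  exact inferInstanceAs (IsIso e.hom)

end Right

section Left

variable [W.HasRightCalculusOfFractions]
  (hres : ∀ Z : K, ∃ (X : C) (s : π.obj X ⟶ Z), W s ∧ P X)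

include hres in
/-- A morphism from an object of the class is a fraction through the class. -/
theorem exists_cofrac {Y X : C} (φ : L.obj (π.obj X) ⟶ L.obj (π.obj Y)) :
    ∃ (Z : C) (g : Z ⟶ Y) (s : Z ⟶ X), W (π.map s) ∧ P Z ∧ L.map (π.map s) ≫ φ = L.map (π.map g) := by
  obtain ⟨f, hf⟩ := Localization.exists_rightFraction L W φ
  obtain ⟨Z, t, ht, hZ⟩ := hres f.X'
  obtain ⟨g, hg⟩ := π.map_surjective (t ≫ f.f)
  obtain ⟨s, hs⟩ := π.map_surjective (t ≫ f.s)
  refine ⟨Z, g, s, hs ▸ W.comp_mem _ _ ht f.hs, hZ, ?_⟩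
  rw [hg, hs, L.map_comp, L.map_comp, hf, Category.assoc, MorphismProperty.RightFraction.map_s_comp_map]

include hF hW hres in
theorem cofrac_eq {Y X Z Z' : C} (hX : P X) (g : Z ⟶ Y) (s : Z ⟶ X) (hs : W (π.map s)) (hZ : P Z)
    (g' : Z' ⟶ Y) (s' : Z' ⟶ X) (hs' : W (π.map s')) (hZ' : P Z') (φ : L.obj (π.obj X) ⟶ L.obj (π.obj Y))
    (h : L.map (π.map s) ≫ φ = L.map (π.map g)) (h' : L.map (π.map s') ≫ φ = L.map (π.map g')) :
    haveI := hW s hZ hX hs
    haveI := hW s' hZ' hX hs'
    inv (F.map s) ≫ F.map g = inv (F.map s') ≫ F.map g' := by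
  obtain ⟨ψ, hψ⟩ := (MorphismProperty.LeftFraction.mk (π.map s') (π.map s) hs).exists_rightFraction
  dsimp at hψ
  have heq : L.map (ψ.f ≫ π.map g) = L.map (ψ.s ≫ π.map g') := by
    rw [L.map_comp, L.map_comp, ← h, ← h', ← Category.assoc, ← Category.assoc, ← L.map_comp, ← L.map_comp, hψ]
  obtain ⟨Z₁, r, hr, hgr⟩ := (MorphismProperty.map_eq_iff_precomp L W _ _).1 heq
  obtain ⟨Z₂, t, ht, hZ₂⟩ := hres Z₁
  obtain ⟨a, ha⟩ := π.map_surjective (t ≫ r ≫ ψ.f)
  obtain ⟨b, hb⟩ := π.map_surjective (t ≫ r ≫ ψ.s)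
  have := hW s hZ hX hs
  have := hW s' hZ' hX hs'
  have hb' : IsIso (F.map b) := hW b hZ₂ hZ' (hb ▸ W.comp_mem _ _ ht (W.comp_mem _ _ hr ψ.hs))
  have e1 : F.map a ≫ F.map s = F.map b ≫ F.map s' := by
    rw [← F.map_comp, ← F.map_comp]
    exact hF _ _ (by rw [π.map_comp, π.map_comp, ha, hb, Category.assoc, Category.assoc, Category.assoc,
      Category.assoc, hψ])
  have e2 : F.map a ≫ F.map g = F.map b ≫ F.map g' := by
    rw [← F.map_comp, ← F.map_comp]
    exact hF _ _ (by rw [π.map_comp, π.map_comp, ha, hb, Category.assoc, Category.assoc, Category.assoc,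
      Category.assoc, hgr])
  have : IsIso (F.map a) := IsIso.of_isIso_fac_right e1
  rw [← cancel_epi (F.map s), IsIso.hom_inv_id_assoc, ← cancel_epi (F.map a), e2, ← Category.assoc,
    ← Category.assoc, e1]
  simp

/-- The value of a fraction. -/
noncomputable def cofracVal {X : C} (hX : P X) {Y : C} (φ : L.obj (π.obj X) ⟶ L.obj (π.obj Y)) :
    F.obj X ⟶ F.obj Y :=
  haveI := hW _ (exists_cofrac π L W P hres φ).choose_spec.choose_spec.choose_spec.2.1 hX
    (exists_cofrac π L W P hres φ).choose_spec.choose_spec.choose_spec.1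
  inv (F.map (exists_cofrac π L W P hres φ).choose_spec.choose_spec.choose) ≫
    F.map (exists_cofrac π L W P hres φ).choose_spec.choose

include hF in
theorem cofracVal_eq {X : C} (hX : P X) {Y Z : C} (φ : L.obj (π.obj X) ⟶ L.obj (π.obj Y))
    (g : Z ⟶ Y) (s : Z ⟶ X) (hs : W (π.map s)) (hZ : P Z) (h : L.map (π.map s) ≫ φ = L.map (π.map g)) :
    haveI := hW s hZ hX hs
    cofracVal π L W F P hW hres hX φ = inv (F.map s) ≫ F.map g :=
  cofrac_eq π L W F hF P hW hres hX _ _ (exists_cofrac π L W P hres φ).choose_spec.choose_spec.choose_spec.1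
    (exists_cofrac π L W P hres φ).choose_spec.choose_spec.choose_spec.2.1 g s hs hZ φ
    (exists_cofrac π L W P hres φ).choose_spec.choose_spec.choose_spec.2.2 h

/-- The limit cone at an object of the class. -/
noncomputable def cofracCone {X : C} (hX : P X) :
    Cone (StructuredArrow.proj ((π ⋙ L).obj X) (π ⋙ L) ⋙ F) where
  pt := F.obj X
  π :=
    { app := fun j => cofracVal π L W F P hW hres hX j.hom
      naturality := fun j j' u => by
        obtain ⟨Z, g, s, hs, hZ, h⟩ := exists_cofrac π L W P hres (Y := j.right) j.hom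
        change 𝟙 _ ≫ cofracVal π L W F P hW hres hX j'.hom = cofracVal π L W F P hW hres hX j.hom ≫ F.map u.right
        rw [Category.id_comp, cofracVal_eq π L W F hF P hW hres hX j.hom g s hs hZ h,
          cofracVal_eq π L W F hF P hW hres hX j'.hom (g ≫ u.right) s hs hZ
            (by rw [← StructuredArrow.w u, ← Category.assoc]; erw [h]; simp),
          Category.assoc, ← F.map_comp] }

include hF in
theorem cofracVal_id {X : C} (hX : P X) : cofracVal π L W F P hW hres hX (𝟙 (L.obj (π.obj X))) = 𝟙 _ := by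
  rw [cofracVal_eq π L W F hF P hW hres hX _ (𝟙 X) (𝟙 X) (by rw [π.map_id]; exact W.id_mem _) hX (by simp)]
  simp

/-- It is a limit cone. -/
noncomputable def isLimitCofracCone {X : C} (hX : P X) :
    IsLimit (cofracCone π L W F hF P hW hres hX) where
  lift c := c.π.app (StructuredArrow.mk (𝟙 ((π ⋙ L).obj X)))
  fac c j := by
    obtain ⟨Z, g, s, hs, hZ, h⟩ := exists_cofrac π L W P hres (Y := j.right) j.hom
    have := hW s hZ hX hs
    have := Localization.inverts L W _ hs
    change _ ≫ cofracVal π L W F P hW hres hX j.hom = _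
    rw [cofracVal_eq π L W F hF P hW hres hX j.hom g s hs hZ h]
    let jZ : StructuredArrow ((π ⋙ L).obj X) (π ⋙ L) := StructuredArrow.mk (inv (L.map (π.map s)))
    have h₁ := c.w (StructuredArrow.homMk (f := jZ) g (by
      change inv (L.map (π.map s)) ≫ L.map (π.map g) = j.hom
      rw [← h, IsIso.inv_hom_id_assoc]))
    have h₂ := c.w (StructuredArrow.homMk (f' := StructuredArrow.mk (𝟙 ((π ⋙ L).obj X))) (f := jZ) s (by
      change inv (L.map (π.map s)) ≫ L.map (π.map s) = _
      rw [IsIso.inv_hom_id]; rfl))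
    dsimp at h₁
    change c.π.app jZ ≫ F.map s = _ at h₂
    rw [← h₁]
    erw [← h₂]
    rw [Category.assoc, IsIso.hom_inv_id_assoc]
  uniq c m hm := by
    have := hm (StructuredArrow.mk (𝟙 ((π ⋙ L).obj X)))
    change m ≫ cofracVal π L W F P hW hres hX _ = _ at this
    erw [cofracVal_id π L W F hF P hW hres hX, Category.comp_id] at this
    exact this

variable {W' : MorphismProperty C} [(π ⋙ L).IsLocalization W']
  (hπ : ∀ Y : C, ∃ (X : C) (s : X ⟶ Y), W' s ∧ P X)

include L hF hW hres in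
theorem hasPointwiseLeftDerivedFunctorAt {X : C} (hX : P X) :
    F.HasPointwiseLeftDerivedFunctorAt W' X := by
  rw [F.hasPointwiseLeftDerivedFunctorAt_iff (π ⋙ L) W']
  exact HasLimit.mk ⟨_, isLimitCofracCone π L W F hF P hW hres hX⟩

include L hF hW hres hπ in
theorem hasPointwiseLeftDerivedFunctor : F.HasPointwiseLeftDerivedFunctor W' := fun Y => by
  obtain ⟨X, s, hs, hX⟩ := hπ Y
  rw [← F.hasPointwiseLeftDerivedFunctorAt_iff_of_mem W' s hs]
  exact hasPointwiseLeftDerivedFunctorAt π L W F hF P hW hres hX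

include hF hW hres hπ in
theorem isIso_app_left {LF : D ⥤ H} (α : (π ⋙ L) ⋙ LF ⟶ F) [LF.IsLeftDerivedFunctor α W'] {X : C} (hX : P X) :
    IsIso (α.app X) := by
  have := hasPointwiseLeftDerivedFunctor π L W F hF P hW hres (W' := W') hπ
  let h₁ := (Functor.isPointwiseRightKanExtensionOfHasPointwiseLeftDerivedFunctor (F := F) (L := π ⋙ L)
    LF α W') ((π ⋙ L).obj X)
  let e := IsLimit.conePointUniqueUpToIso h₁ (isLimitCofracCone π L W F hF P hW hres hX)
  have he := IsLimit.conePointUniqueUpToIso_hom_comp h₁ (isLimitCofracCone π L W F hF P hW hres hX)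
    (StructuredArrow.mk (𝟙 ((π ⋙ L).obj X)))
  change e.hom ≫ cofracVal π L W F P hW hres hX _ = LF.map (𝟙 _) ≫ α.app X at he
  erw [cofracVal_id π L W F hF P hW hres hX, Category.comp_id, LF.map_id, Category.id_comp] at he
  rw [← he]
  exact inferInstanceAs (IsIso e.hom)

end Left

end Groth.L10.CdDim
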