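import Groth.Agent.L10.CdDim.Class
import Groth.Agent.L10.CdDim.Deriv
import Groth.Agent.L00.RDerLES
import Groth.Agent.L17.AcyclicMap
import Mathlib.Algebra.Homology.DerivedCategory.Fractions

/-! The right derived functor on unbounded complexes of a functor of finite cohomological dimension. -/

universe w w' v u v' u'

open CategoryTheory CategoryTheory.Limits CochainComplex

set_option backward.defeqAttrib.useBackward true
set_option backward.isDefEq.respectTransparency false
set_option backward.isDefEq.respectTransparency.types false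
namespace Groth.L10.CdDim

variable {A : Type u} [Category.{v} A] [Abelian A] [EnoughInjectives A]
  {B : Type u'} [Category.{v'} B] [Abelian B] (F : A ⥤ B) [F.Additive] [PreservesFiniteLimits F]

omit [PreservesFiniteLimits F] in
/-- A short exact sequence: vanishing of the third term. -/
theorem isZero_rd_X₃ {T : ShortComplex A} (hT : T.ShortExact) (j : ℕ)
    (h₂ : IsZero ((F.rightDerived j).obj T.X₂)) (h₁ : IsZero ((F.rightDerived (j + 1)).obj T.X₁)) :
    IsZero ((F.rightDerived j).obj T.X₃) := by
  letI := HasDerivedCategory.standard A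
  have := L00.RDerLES.epi_map_g F hT j h₁
  exact IsZero.of_epi ((F.rightDerived j).map T.g) h₂

/-- A vanishing derived functor forces the higher ones to vanish. -/
theorem isZero_rd_of_le (n : ℕ) (hn : ∀ X : A, IsZero ((F.rightDerived n).obj X)) :
    ∀ (i : ℕ) (X : A), n ≤ i → IsZero ((F.rightDerived i).obj X) := by
  intro i X hi
  induction hi generalizing X with
  | refl => exact hn X
  | @step i hi ih =>
    letI := HasDerivedCategory.standard A
    let T := ShortComplex.mk (Injective.ι X) (cokernel.π _) (cokernel.condition _)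
    have hT : T.ShortExact := { exact := ShortComplex.exact_of_g_is_cokernel _ (cokernelIsCokernel _) }
    have : Epi ((F.rightDerived i).map T.g) := ⟨fun a b _ => (ih _).eq_of_src a b⟩
    exact L00.RDerLES.isZero_X₁ F hT i (F.isZero_rightDerived_obj_injective_succ i _)

/-- The class of acyclic objects. -/
def Facyc : ObjectProperty A := fun X => L17.GrothSS.RAcyclic F X

instance : (Facyc F).IsClosedUnderIsomorphisms :=
  ⟨fun e hX q hq => (hX q hq).of_iso ((F.rightDerived q).mapIso e.symm)⟩

omit [PreservesFiniteLimits F] in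
theorem facyc_injective (X : A) [Injective X] : Facyc F X := fun q hq => by
  obtain ⟨k, rfl⟩ : ∃ k, q = k + 1 := ⟨q - 1, by omega⟩
  exact F.isZero_rightDerived_obj_injective_succ k X

omit [PreservesFiniteLimits F] in
theorem facyc_biprod {X Y : A} (hX : Facyc F X) (hY : Facyc F Y) : Facyc F (X ⊞ Y) := by
  letI := HasDerivedCategory.standard A
  exact L17.GrothSS.isZero_rightDerived_X₂ F (ShortComplex.Splitting.ofHasBinaryBiproduct X Y).shortExact hX hY

variable {N : ℕ} (hN : ∀ (i : ℕ) (X : A), N < i → IsZero ((F.rightDerived i).obj X))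

include hN in
theorem facyc_zc (K : CochainComplex A ℤ) (p : ℤ) : Facyc F (((injEmb A).zc K N).X p) := fun q hq => by
  obtain ⟨k, rfl⟩ : ∃ k, q = k + 1 := ⟨q - 1, by omega⟩
  exact (((injEmb A).seq K p).isZero_shift F ((injEmb A).injective_seq_J K (injective_injEmb A) p) N k).2
    (hN _ _ (by omega))

include hN in
/-- Every complex has a resolution by acyclic objects. -/
theorem exists_qis_facyc (K : CochainComplex A ℤ) :
    ∃ (T : CochainComplex A ℤ) (f : K ⟶ T), QuasiIso f ∧ ∀ p, Facyc F (T.X p) :=
  exists_qis_class (injEmb A) (Facyc F) (fun X => have := injective_injEmb A X; facyc_injective F _)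
    (fun _ _ => facyc_biprod F) N K (facyc_zc F hN K)

include hN in
/-- Acyclic complexes of acyclic objects stay acyclic. -/
theorem acyclic_map (K : CochainComplex A ℤ) (hK : K.Acyclic) (hA : ∀ p, Facyc F (K.X p)) :
    ((F.mapHomologicalComplex (.up ℤ)).obj K).Acyclic := by
  letI := HasDerivedCategory.standard A
  have hT : ∀ i : ℤ, (ShortComplex.mk (K.iCycles i) (K.toCycles i (i + 1))
      (by rw [← cancel_mono (K.iCycles (i + 1))]; simp)).ShortExact := fun i => by
    have h : Epi (K.toCycles i (i + 1)) := by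
      have hz : K.homologyπ (i + 1) = 0 :=
        ((K.exactAt_iff_isZero_homology (i + 1)).1 (hK (i + 1))).eq_of_tgt _ _
      exact (ShortComplex.exact_of_g_is_cokernel (ShortComplex.mk _ _
        (K.toCycles_comp_homologyπ i (i + 1)))
        (K.homologyIsCokernel i (i + 1) (by simp))).epi_f hz
    refine { exact := ?_, mono_f := inferInstance, epi_g := h }
    rw [ShortComplex.exact_iff_exact_up_to_refinements]
    intro P x hx
    change x ≫ K.toCycles i (i + 1) = 0 at hx
    refine ⟨P, 𝟙 P, inferInstance, K.liftCycles x (i + 1) (by simp) ?_, ?_⟩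
    · rw [← K.toCycles_i i (i + 1), ← Category.assoc]
      exact (congrArg (fun e => e ≫ K.iCycles (i + 1)) hx).trans zero_comp
    · simp
  have hz : ∀ (d j : ℕ) (i : ℤ), N < j + d → 0 < j → IsZero ((F.rightDerived j).obj (K.cycles i)) := by
    intro d
    induction d with
    | zero => exact fun j i hj _ => hN j _ (by omega)
    | succ d ih =>
      intro j i hj hj0
      obtain ⟨i, rfl⟩ : ∃ i', i = i' + 1 := ⟨i - 1, by omega⟩
      exact isZero_rd_X₃ F (hT i) j (hA i j hj0) (ih (j + 1) i (by omega) (by omega))
  intro n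
  obtain ⟨i, rfl⟩ : ∃ i, n = i + 1 := ⟨n - 1, by omega⟩
  rw [HomologicalComplex.exactAt_iff' _ i (i + 1) (i + 1 + 1) (by simp) (by simp),
    ShortComplex.exact_iff_exact_up_to_refinements]
  intro P x hx
  change x ≫ F.map (K.d (i + 1) (i + 1 + 1)) = 0 at hx
  have hk : IsLimit (KernelFork.ofι (F.map (K.iCycles (i + 1)))
      (f := F.map (K.d (i + 1) (i + 1 + 1))) (by rw [← F.map_comp, K.iCycles_d, F.map_zero])) :=
    KernelFork.mapIsLimit _ (K.cyclesIsKernel (i + 1) (i + 1 + 1) (by simp)) F
  obtain ⟨y, hy⟩ := KernelFork.IsLimit.lift' hk x hx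
  change y ≫ F.map (K.iCycles (i + 1)) = x at hy
  have := L17.GrothSS.epi_map_g F (hT i) (hz (N + 1) 1 i (by omega) zero_lt_one)
  obtain ⟨P', π, hπ, z, hz'⟩ := surjective_up_to_refinements_of_epi
    (F.map (K.toCycles i (i + 1))) y
  refine ⟨P', π, hπ, z, ?_⟩
  change π ≫ x = z ≫ F.map (K.d i (i + 1))
  exact ((congrArg (π ≫ ·) hy.symm).trans
    ((Category.assoc _ _ _).symm.trans (congrArg (· ≫ F.map (K.iCycles (i + 1))) hz'))).trans
    ((Category.assoc _ _ _).trans (congrArg (z ≫ ·) (by rw [← F.map_comp, K.toCycles_i])))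

include hN in
/-- The functor preserves quasi-isomorphisms between complexes of acyclic objects. -/
theorem quasiIso_map {K L : CochainComplex A ℤ} (f : K ⟶ L) [QuasiIso f]
    (hA : ∀ n, Facyc F (K.X n)) (hB : ∀ n, Facyc F (L.X n)) :
    QuasiIso ((F.mapHomologicalComplex (.up ℤ)).map f) := by
  have hK : (mappingCone f).Acyclic := (L17.GrothSS.quasiIso_iff_cone f).1 inferInstance
  have hC : ∀ n, Facyc F ((mappingCone f).X n) := fun n =>
    (Facyc F).prop_of_iso (HomologicalComplex.homotopyCofiber.XIsoBiprod f n (n + 1) rfl).symm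
      (facyc_biprod F (hA (n + 1)) (hB n))
  rw [L17.GrothSS.quasiIso_iff_cone]
  exact fun n => (acyclic_map F hN _ hK hC n).of_iso (mappingCone.mapHomologicalComplexIso f F)

end Groth.L10.CdDim
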