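import Mathlib.Algebra.Homology.HomotopyCategory.MappingCocone
import Mathlib.Algebra.Homology.HomologySequenceLemmas
import Mathlib.Algebra.Homology.HomotopyCategory.ShiftSequence
import Groth.Agent.L00.ConeTransfer

/-! Mapping cocones and short exact sequences with acyclic middle term. -/

universe v u

open CategoryTheory CategoryTheory.Limits CochainComplex CochainComplex.HomComplex

set_option backward.defeqAttrib.useBackward true
set_option backward.isDefEq.respectTransparency false
set_option backward.isDefEq.respectTransparency.types false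
namespace Groth.L10.CdDim

variable {A : Type u} [Category.{v} A] [Abelian A]

/-- The cocone of the identity is acyclic. -/
theorem acyclic_mappingCocone_id (T : CochainComplex A ℤ) : (mappingCocone (𝟙 T)).Acyclic := by
  intro i
  rw [HomologicalComplex.exactAt_iff_isZero_homology]
  exact IsZero.of_iso (L00.ConeTransfer.acyclic_cone (𝟙 T) (i + -1))
    (((HomologicalComplex.homologyFunctor A (ComplexShape.up ℤ) 0).shiftIso (-1) i (i + -1) (by omega)).app _)

variable {K J Z T : CochainComplex A ℤ} (h : J ⟶ T)

theorem fst_comp_cocycle : δ (-1) 0 (mappingCocone.snd h) + Cochain.ofHom (mappingCocone.fst h ≫ h) = 0 := by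
  rw [mappingCocone.snd, Cochain.δ_leftShift _ (-1) (-1) 0 (by omega) 1 (by omega), mappingCone.δ_snd,
    Cochain.leftShift_neg, Cochain.leftShift_comp_zero_cochain _ _ 0 (by omega), Cochain.ofHom_comp]
  simp [mappingCocone.fst, Int.negOnePow_odd (-1) ⟨-1, rfl⟩]

theorem hom_ext_cocone {M : CochainComplex A ℤ} {a b : M ⟶ mappingCocone h}
    (h₁ : a ≫ mappingCocone.fst h = b ≫ mappingCocone.fst h)
    (h₂ : ∀ p q (hpq : p + -1 = q), a.f p ≫ (mappingCocone.snd h).v p q hpq = b.f p ≫ (mappingCocone.snd h).v p q hpq) :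
    a = b := by
  ext p
  have e1 := congrArg (fun m => m.f p ≫ (mappingCocone.inl h).v p p (add_zero p)) h₁
  simp only [HomologicalComplex.comp_f, Category.assoc] at e1
  rw [← Category.comp_id (a.f p), ← Category.comp_id (b.f p), ← mappingCocone.id_X h p (p + -1) rfl,
    Preadditive.comp_add, Preadditive.comp_add, e1, reassoc_of% (h₂ p _ rfl)]

/-- The map to the cocone of the identity. -/
noncomputable def toCoconeId : mappingCocone h ⟶ mappingCocone (𝟙 T) :=
  mappingCocone.lift (𝟙 T) (mappingCocone.fst h ≫ h) (mappingCocone.snd h)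
    (by rw [Category.comp_id]; exact fst_comp_cocycle h)

theorem toCoconeId_f (p : ℤ) : (toCoconeId h).f p =
    (mappingCocone.fst h).f p ≫ h.f p ≫ (mappingCocone.inl (𝟙 T)).v p p (add_zero p) +
      (mappingCocone.snd h).v p (p + -1) rfl ≫ (mappingCocone.inr (𝟙 T)).1.v (p + -1) p (by omega) := by
  conv_lhs => rw [← Category.comp_id ((toCoconeId h).f p), ← mappingCocone.id_X (𝟙 T) p (p + -1) rfl]
  simp [toCoconeId]

/-- The short exact sequence resolving a cocone. -/
noncomputable def coconeSC : ShortComplex (CochainComplex A ℤ) :=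
  ShortComplex.mk (X₂ := J ⊞ mappingCocone (𝟙 T)) (biprod.lift (mappingCocone.fst h) (toCoconeId h))
    (biprod.desc h (-mappingCocone.fst (𝟙 T))) (by simp [toCoconeId])

/-- It is split in each degree. -/
noncomputable def coconeSplitting (p : ℤ) :
    ((coconeSC h).map (HomologicalComplex.eval A (ComplexShape.up ℤ) p)).Splitting where
  r := (biprod.fst : J ⊞ mappingCocone (𝟙 T) ⟶ J).f p ≫ (mappingCocone.inl h).v p p (add_zero p) +
    (biprod.snd : J ⊞ mappingCocone (𝟙 T) ⟶ _).f p ≫ (mappingCocone.snd (𝟙 T)).v p (p + -1) rfl ≫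
      (mappingCocone.inr h).1.v (p + -1) p (by omega)
  s := -((mappingCocone.inl (𝟙 T)).v p p (add_zero p) ≫ (biprod.inr : _ ⟶ J ⊞ mappingCocone (𝟙 T)).f p)
  f_r := by
    simp [coconeSC, toCoconeId, mappingCocone.id_X h p (p + -1) rfl]
  s_g := by
    simp [coconeSC, ← HomologicalComplex.comp_f_assoc, ← HomologicalComplex.comp_f]
  id := by
    simp only [coconeSC, ShortComplex.map_f, ShortComplex.map_g, HomologicalComplex.eval_map,
      ShortComplex.map_X₂, HomologicalComplex.eval_obj]
    apply (cancel_mono (HomologicalComplex.biprodXIso _ _ p).hom).1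
    apply biprod.hom_ext
    · simp [toCoconeId, ← HomologicalComplex.comp_f]
    · simp [toCoconeId_f, biprod.desc_eq, ← HomologicalComplex.comp_f]
      conv_rhs => rw [← Category.comp_id ((biprod.snd : J ⊞ mappingCocone (𝟙 T) ⟶ _).f p),
        ← mappingCocone.id_X (𝟙 T) p (p + -1) rfl]
      simp
      abel

theorem coconeSC_shortExact : (coconeSC h).ShortExact :=
  HomologicalComplex.shortExact_of_degreewise_shortExact _ fun p => (coconeSplitting h p).shortExact

theorem acyclic_coconeSC_X₂ (hJ : J.Acyclic) : (coconeSC h).X₂.Acyclic := by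
  intro i
  rw [HomologicalComplex.exactAt_iff_isZero_homology]
  let H := HomologicalComplex.homologyFunctor A (ComplexShape.up ℤ) i
  have := preservesBinaryBiproducts_of_preservesBiproducts H
  refine IsZero.of_iso ?_ (H.mapBiprod J (mappingCocone (𝟙 T)))
  exact (biprod_isZero_iff _ _).2 ⟨(hJ i).isZero_homology, (acyclic_mappingCocone_id T i).isZero_homology⟩

/-- A short exact sequence with acyclic middle term, followed by a quasi-isomorphism, gives a
quasi-isomorphism into the cocone. -/
theorem quasiIso_lift (ι : K ⟶ J) (π : J ⟶ Z) (w : ι ≫ π = 0) (hS : (ShortComplex.mk ι π w).ShortExact)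
    (hJ : J.Acyclic) (g : Z ⟶ T) [QuasiIso g] (hg : π ≫ g = h) :
    QuasiIso (mappingCocone.lift h ι 0 (by rw [← hg, ← Category.assoc, w, zero_comp]; simp)) := by
  set θ := mappingCocone.lift h ι 0 (by rw [← hg, ← Category.assoc, w, zero_comp]; simp)
  have hθ : θ ≫ toCoconeId h = 0 := by
    refine hom_ext_cocone _ ?_ (fun p q hpq => ?_)
    · simp [toCoconeId, θ, ← hg, reassoc_of% w]
    · simp [toCoconeId, θ]
  let φ : ShortComplex.mk ι π w ⟶ coconeSC h :=
    { τ₁ := θ, τ₂ := biprod.inl, τ₃ := g
      comm₁₂ := by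
        change θ ≫ biprod.lift (mappingCocone.fst h) (toCoconeId h) = ι ≫ biprod.inl
        apply biprod.hom_ext <;> simp [θ, hθ]
      comm₂₃ := by simp [coconeSC, hg] }
  rw [quasiIso_iff]
  intro i
  rw [quasiIsoAt_iff_isIso_homologyMap]
  have hh : (i - 1) + 1 = i := by omega
  have hn := HomologicalComplex.HomologySequence.δ_naturality φ hS (coconeSC_shortExact h) (i - 1) i hh
  have h₂ := acyclic_coconeSC_X₂ h hJ
  have := hS.isIso_δ (i - 1) i hh (hJ _).isZero_homology (hJ _).isZero_homology
  have := (coconeSC_shortExact h).isIso_δ (i - 1) i hh (h₂ _).isZero_homology (h₂ _).isZero_homology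
  have : IsIso (HomologicalComplex.homologyMap φ.τ₃ (i - 1)) := inferInstanceAs (IsIso (HomologicalComplex.homologyMap g (i - 1)))
  have : IsIso (hS.δ (i - 1) i hh ≫ HomologicalComplex.homologyMap φ.τ₁ i) := by
    rw [hn]
    infer_instance
  exact IsIso.of_isIso_comp_left (hS.δ (i - 1) i hh) _

end Groth.L10.CdDim
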