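import Groth.Agent.L10.CdDim.Emb
import Groth.Agent.L10.CdDim.Cocone
import Mathlib.CategoryTheory.ObjectProperty.ClosedUnderIsomorphisms

/-! Resolutions of unbounded complexes by a class of objects of finite codimension. -/

universe v u

open CategoryTheory CategoryTheory.Limits CochainComplex
open scoped ZeroObject

set_option backward.defeqAttrib.useBackward true
set_option backward.isDefEq.respectTransparency false
set_option backward.isDefEq.respectTransparency.types false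
namespace Groth.L10.CdDim

variable {A : Type u} [Category.{v} A] [Abelian A]

namespace Seq

/-- The sequence without its first term. -/
def tail (S : Seq A) : Seq A where
  Z j := S.Z (j + 1)
  J j := S.J (j + 1)
  ι j := S.ι (j + 1)
  p j := S.p (j + 1)
  w j := S.w (j + 1)
  shortExact j := S.shortExact (j + 1)

/-- The objects of the padded sequence. -/
noncomputable def padZ : ℕ → Seq A → ℕ → A
  | 0, S, _ => S.Z 0
  | _ + 1, _, 0 => 0
  | j + 1, S, n + 1 => padZ j S.tail n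

/-- The middle objects of the padded sequence. -/
noncomputable def padJ : ℕ → Seq A → ℕ → A
  | 0, S, 0 => S.Z 0
  | 0, S, _ + 1 => S.J 0
  | _ + 1, _, 0 => 0
  | j + 1, S, n + 1 => padJ j S.tail n

/-- The monomorphisms of the padded sequence. -/
noncomputable def padι : ∀ (j : ℕ) (S : Seq A) (n : ℕ), padZ j S n ⟶ padJ j S n
  | 0, S, 0 => 𝟙 (S.Z 0)
  | 0, S, _ + 1 => S.ι 0
  | _ + 1, _, 0 => 𝟙 0
  | j + 1, S, n + 1 => padι j S.tail n

/-- The epimorphisms of the padded sequence. -/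
noncomputable def padp : ∀ (j : ℕ) (S : Seq A) (n : ℕ), padJ j S n ⟶ padZ (j + 1) S n
  | 0, _, 0 => 0
  | 0, S, _ + 1 => S.p 0
  | _ + 1, _, 0 => 0
  | j + 1, S, n + 1 => padp j S.tail n

theorem pad_w : ∀ (j : ℕ) (S : Seq A) (n : ℕ), padι j S n ≫ padp j S n = 0
  | 0, _, 0 => comp_zero
  | 0, S, _ + 1 => S.w 0
  | _ + 1, _, 0 => comp_zero
  | j + 1, S, n + 1 => pad_w j S.tail n

theorem shortExact_id_zero (X : A) :
    (ShortComplex.mk (𝟙 X) (0 : X ⟶ (0 : A)) comp_zero).ShortExact where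
  exact := ShortComplex.exact_of_g_is_cokernel _
    (CokernelCofork.IsColimit.ofπ _ _ (fun _ _ => 0) (fun g hg => by simpa using hg.symm)
      (fun g hg m hm => (isZero_zero A).eq_of_src _ _))
  mono_f := inferInstanceAs (Mono (𝟙 X))
  epi_g := (inferInstance : Epi (0 : X ⟶ (0 : A)))

theorem pad_shortExact : ∀ (j : ℕ) (S : Seq A) (n : ℕ),
    (ShortComplex.mk (padι j S n) (padp j S n) (pad_w j S n)).ShortExact
  | 0, S, 0 => shortExact_id_zero (S.Z 0)
  | 0, S, _ + 1 => S.shortExact 0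
  | _ + 1, _, 0 => shortExact_id_zero 0
  | j + 1, S, n + 1 => pad_shortExact j S.tail n

/-- The sequence cut off after `n` steps. -/
noncomputable def pad (S : Seq A) (n : ℕ) : Seq A where
  Z j := padZ j S n
  J j := padJ j S n
  ι j := padι j S n
  p j := padp j S n
  w j := pad_w j S n
  shortExact j := pad_shortExact j S n

theorem padJ_lt : ∀ (j : ℕ) (S : Seq A) (n : ℕ), j < n → padJ j S n = S.J j
  | 0, _, 0, h => absurd h (by omega)
  | 0, _, _ + 1, _ => rfl
  | _ + 1, _, 0, h => absurd h (by omega)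
  | j + 1, S, n + 1, h => padJ_lt j S.tail n (by omega)

theorem padJ_self : ∀ (n : ℕ) (S : Seq A), padJ n S n = S.Z n
  | 0, _ => rfl
  | n + 1, S => padJ_self n S.tail

theorem isZero_padJ : ∀ (j : ℕ) (S : Seq A) (n : ℕ), n < j → IsZero (padJ j S n)
  | 0, _, _, h => absurd h (by omega)
  | _ + 1, _, 0, _ => isZero_zero A
  | j + 1, S, n + 1, h => isZero_padJ j S.tail n (by omega)

theorem epi_padι : ∀ (n : ℕ) (S : Seq A), Epi (padι n S n)
  | 0, S => inferInstanceAs (Epi (𝟙 (S.Z 0)))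
  | n + 1, S => epi_padι n S.tail

/-- The finiteness axiom applied to a sequence. -/
theorem end_mem (P : ObjectProperty A) (n : ℕ) (hn : 1 ≤ n)
    (h3 : ∀ K : CochainComplex A ℕ, (∀ i : ℕ, 1 ≤ i → i ≤ n → K.ExactAt i) → (∀ i : ℕ, n < i → IsZero (K.X i)) →
      Epi (K.d (n - 1) n) → (∀ i : ℕ, i < n → P (K.X i)) → P (K.X n))
    (S : Seq A) (hS : ∀ i, i < n → P (S.J i)) : P (S.Z n) := by
  obtain ⟨m, rfl⟩ : ∃ m, n = m + 1 := ⟨n - 1, by omega⟩
  have := h3 (S.pad (m + 1)).cx
    (fun i hi _ => by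
      obtain ⟨k, rfl⟩ : ∃ k, i = k + 1 := ⟨i - 1, by omega⟩
      exact (S.pad (m + 1)).exactAt_succ k)
    (fun i hi => isZero_padJ i S (m + 1) hi)
    (by
      rw [Nat.add_sub_cancel, cx_d]
      have : Epi ((S.pad (m + 1)).ι (m + 1)) := epi_padι (m + 1) S
      exact epi_comp _ _)
    (fun i hi => by
      change P (padJ i S (m + 1))
      rw [padJ_lt i S (m + 1) hi]
      exact hS i hi)
  change P (padJ (m + 1) S (m + 1)) at this
  rwa [padJ_self] at this

end Seq

/-- The terms of a cocone. -/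
noncomputable def coconeXIso {J T : CochainComplex A ℤ} (h : J ⟶ T) (p : ℤ) :
    (mappingCocone h).X p ≅ J.X p ⊞ T.X (p + -1) where
  hom := biprod.lift ((mappingCocone.fst h).f p) ((mappingCocone.snd h).v p (p + -1) rfl)
  inv := biprod.desc ((mappingCocone.inl h).v p p (add_zero p)) ((mappingCocone.inr h).1.v (p + -1) p (by omega))
  hom_inv_id := by rw [biprod.lift_desc]; exact mappingCocone.id_X h p (p + -1) rfl
  inv_hom_id := by apply biprod.hom_ext' <;> apply biprod.hom_ext <;> simp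

theorem Emb.zc_succ (𝔈 : Emb A) (K : CochainComplex A ℤ) : ∀ j, 𝔈.zc K (j + 1) = 𝔈.zc (𝔈.next K) j
  | 0 => rfl
  | j + 1 => congrArg 𝔈.next (Emb.zc_succ 𝔈 K j)

/-- A complex whose `m`-th cokernel has terms in the class has a resolution in the class. -/
theorem exists_qis_class (𝔈 : Emb A) (P : ObjectProperty A) [P.IsClosedUnderIsomorphisms]
    (hE : ∀ X, P (𝔈.E X)) (hbi : ∀ X Y, P X → P Y → P (X ⊞ Y)) :
    ∀ (m : ℕ) (K : CochainComplex A ℤ), (∀ p, P ((𝔈.zc K m).X p)) →
      ∃ (T : CochainComplex A ℤ) (f : K ⟶ T), QuasiIso f ∧ ∀ p, P (T.X p) := by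
  intro m
  induction m with
  | zero => exact fun K hK => ⟨K, 𝟙 K, inferInstance, hK⟩
  | succ m ih =>
    intro K hK
    obtain ⟨T, g, hg, hT⟩ := ih (𝔈.next K) (fun p => by rw [← Emb.zc_succ]; exact hK p)
    refine ⟨mappingCocone ((cokernel.π (𝔈.ιc K) : 𝔈.jc K ⟶ 𝔈.next K) ≫ g), _,
      quasiIso_lift _ (𝔈.ιc K) (cokernel.π _) (cokernel.condition _) (𝔈.sc_shortExact K 0) (𝔈.acyclic_jc K) g rfl,
      fun p => P.prop_of_iso (coconeXIso _ p).symm (hbi _ _ (hbi _ _ (hE _) (hE _)) (hT _))⟩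

end Groth.L10.CdDim
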