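import Groth.Agent.L10.CdDim.Class
import Mathlib.Algebra.Homology.DerivedCategory.ShortExact
import Mathlib.Algebra.Homology.DerivedCategory.HomologySequence

/-! In the derived category a complex is a shift of its iterated cokernels. -/

universe w v u

open CategoryTheory CategoryTheory.Limits CategoryTheory.Pretriangulated
open scoped ZeroObject

set_option backward.defeqAttrib.useBackward true
set_option backward.isDefEq.respectTransparency false
set_option backward.isDefEq.respectTransparency.types false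
namespace Groth.L10.CdDim

variable {A : Type u} [Category.{v} A] [Abelian A] [HasDerivedCategory.{w} A]

theorem isZero_Q_of_acyclic {K : CochainComplex A ℤ} (h : K.Acyclic) :
    IsZero (DerivedCategory.Q.obj K) := by
  have : IsIso (DerivedCategory.Q.map (0 : K ⟶ 0)) := by
    rw [DerivedCategory.isIso_Q_map_iff_quasiIso, quasiIso_iff]
    intro i
    rw [quasiIsoAt_iff_isIso_homologyMap]
    have h₀ : IsZero ((0 : CochainComplex A ℤ).homology i) :=
      (HomologicalComplex.homologyFunctor A (ComplexShape.up ℤ) i).map_isZero (isZero_zero _)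
    exact ⟨0, ((h i).isZero_homology).eq_of_src _ _, h₀.eq_of_src _ _⟩
  exact (DerivedCategory.Q.map_isZero (isZero_zero (CochainComplex A ℤ))).of_iso (asIso (DerivedCategory.Q.map (0 : K ⟶ 0)))

variable (𝔈 : Emb A) (K : CochainComplex A ℤ)

theorem isIso_δ_sc (j : ℕ) : IsIso (DerivedCategory.triangleOfSESδ (𝔈.sc_shortExact K j)) :=
  (Triangle.isZero₂_iff_isIso₃ _ (DerivedCategory.triangleOfSES_distinguished (𝔈.sc_shortExact K j))).1
    (isZero_Q_of_acyclic (𝔈.acyclic_jc _))

/-- The connecting isomorphism. -/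
noncomputable def conn (j : ℕ) :
    DerivedCategory.Q.obj (𝔈.zc K (j + 1)) ≅ (DerivedCategory.Q.obj (𝔈.zc K j))⟦(1 : ℤ)⟧ :=
  haveI := isIso_δ_sc 𝔈 K j
  asIso (DerivedCategory.triangleOfSESδ (𝔈.sc_shortExact K j))

/-- The iterated cokernel is a shift. -/
noncomputable def theta : ∀ j : ℕ, DerivedCategory.Q.obj (𝔈.zc K j) ≅ (DerivedCategory.Q.obj K)⟦(j : ℤ)⟧
  | 0 => ((shiftFunctorZero' (DerivedCategory A) ((0 : ℕ) : ℤ) (by simp)).app (DerivedCategory.Q.obj K)).symm
  | j + 1 => conn 𝔈 K j ≪≫ (shiftFunctor (DerivedCategory A) (1 : ℤ)).mapIso (theta j) ≪≫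
      ((shiftFunctorAdd' (DerivedCategory A) (j : ℤ) 1 ((j + 1 : ℕ) : ℤ) (by simp)).app _).symm

variable {K} {L : CochainComplex A ℤ} (h : ∀ X, Injective (𝔈.E X))

theorem conn_naturality (φ : K ⟶ L) (j : ℕ) :
    DerivedCategory.Q.map (𝔈.zMap h φ (j + 1)) ≫ (conn 𝔈 L j).hom =
      (conn 𝔈 K j).hom ≫ (DerivedCategory.Q.map (𝔈.zMap h φ j))⟦(1 : ℤ)⟧' :=
  (DerivedCategory.triangleOfSESδ_naturality (𝔈.sc_shortExact K j) (𝔈.sc_shortExact L j) (𝔈.scMap h φ j)).symm

theorem theta_naturality (φ : K ⟶ L) : ∀ j : ℕ,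
    DerivedCategory.Q.map (𝔈.zMap h φ j) ≫ (theta 𝔈 L j).hom =
      (theta 𝔈 K j).hom ≫ (DerivedCategory.Q.map φ)⟦(j : ℤ)⟧'
  | 0 => (shiftFunctorZero' (DerivedCategory A) ((0 : ℕ) : ℤ) (by simp)).inv.naturality (DerivedCategory.Q.map φ)
  | j + 1 => by
    simp only [theta, Iso.trans_hom, Iso.symm_hom, Iso.app_inv, Functor.mapIso_hom, Category.assoc]
    rw [← Category.assoc, conn_naturality, Category.assoc, ← Functor.map_comp_assoc, theta_naturality φ j,
      Functor.map_comp_assoc]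
    exact congrArg (fun m => (conn 𝔈 K j).hom ≫ (shiftFunctor (DerivedCategory A) (1 : ℤ)).map (theta 𝔈 K j).hom ≫ m)
      ((shiftFunctorAdd' (DerivedCategory A) (j : ℤ) 1 ((j + 1 : ℕ) : ℤ) (by simp)).inv.naturality (DerivedCategory.Q.map φ))

/-- The shifted cokernel is the complex. -/
noncomputable def thetaInv (K : CochainComplex A ℤ) (n : ℕ) :
    DerivedCategory.Q.obj ((CategoryTheory.shiftFunctor (CochainComplex A ℤ) (-(n : ℤ))).obj (𝔈.zc K n)) ≅ DerivedCategory.Q.obj K :=
  (DerivedCategory.Q.commShiftIso (-(n : ℤ))).app _ ≪≫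
    (CategoryTheory.shiftFunctor (DerivedCategory A) (-(n : ℤ))).mapIso (theta 𝔈 K n) ≪≫
    (shiftFunctorCompIsoId (DerivedCategory A) (n : ℤ) (-(n : ℤ)) (by omega)).app _

theorem thetaInv_naturality (φ : K ⟶ L) (n : ℕ) :
    DerivedCategory.Q.map ((CategoryTheory.shiftFunctor (CochainComplex A ℤ) (-(n : ℤ))).map (𝔈.zMap h φ n)) ≫
      (thetaInv 𝔈 L n).hom = (thetaInv 𝔈 K n).hom ≫ DerivedCategory.Q.map φ := by
  have h1 := (DerivedCategory.Q.commShiftIso (-(n : ℤ))).hom.naturality (𝔈.zMap h φ n)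
  have h2 := (shiftFunctorCompIsoId (DerivedCategory A) (n : ℤ) (-(n : ℤ)) (by omega)).hom.naturality
    (DerivedCategory.Q.map φ)
  simp only [Functor.comp_map, Functor.id_map] at h1 h2
  simp only [thetaInv, Iso.trans_hom, Iso.app_hom, Functor.mapIso_hom, Category.assoc]
  rw [reassoc_of% h1, ← Functor.map_comp_assoc, theta_naturality, Functor.map_comp_assoc, h2]

end Groth.L10.CdDim
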