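import Groth.Agent.L10.CdDim.Acyclic
import Mathlib.Algebra.Homology.HomotopyCategory.ShortExact

/-! Left resolutions of unbounded complexes by objects concentrated in the top degree. -/

universe v u v' u'

open CategoryTheory CategoryTheory.Limits CochainComplex

set_option backward.defeqAttrib.useBackward true
set_option backward.isDefEq.respectTransparency false
set_option backward.isDefEq.respectTransparency.types false
namespace Groth.L10.CdDim

variable {A : Type u} [Category.{v} A] [Abelian A]
  (E : A → A) (e : ∀ X, E X ⟶ X)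

/-- The covering complex. -/
noncomputable def coverCx (K : CochainComplex A ℤ) : CochainComplex A ℤ :=
  CochainComplex.of (fun p => E (K.X p) ⊞ E (K.X (p - 1)))
    (fun p => biprod.fst ≫ eqToHom (congrArg (fun t => E (K.X t)) (by omega : p = p + 1 - 1)) ≫ biprod.inr)
    (fun p => by simp)

/-- The covering map. -/
noncomputable def coverπ (K : CochainComplex A ℤ) : coverCx E K ⟶ K where
  f p := biprod.desc (e _) (e _ ≫ K.d (p - 1) p)
  comm' i j hij := by
    obtain rfl : i + 1 = j := hij
    have h : ∀ (a b : ℤ) (hab : a = b) (c : ℤ),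
        eqToHom (congrArg (fun t => E (K.X t)) hab) ≫ e (K.X b) ≫ K.d b c = e (K.X a) ≫ K.d a c := by
      rintro a _ rfl c
      simp
    simp only [coverCx, CochainComplex.of_d]
    apply biprod.hom_ext'
    · simp [h i (i + 1 - 1) (by omega)]
    · simp

theorem epi_coverπ [∀ X, Epi (e X)] (K : CochainComplex A ℤ) : Epi (coverπ E e K) :=
  HomologicalComplex.epi_of_epi_f _ fun p => by
    exact epi_of_epi_fac (biprod.inl_desc (e (K.X p)) (e _ ≫ K.d (p - 1) p))

variable {B : Type u'} [Category.{v'} B] [Abelian B] (F : A ⥤ B) [F.Additive] [EnoughInjectives A]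

/-- Concentration in the top degree. -/
def Top (n : ℕ) : ObjectProperty A := fun X => ∀ i : ℕ, i ≠ n → IsZero ((F.rightDerived i).obj X)

variable (n : ℕ)

instance : (Top F n).IsClosedUnderIsomorphisms :=
  ⟨fun e hX q hq => (hX q hq).of_iso ((F.rightDerived q).mapIso e.symm)⟩

theorem top_biprod {X Y : A} (hX : Top F n X) (hY : Top F n Y) : Top F n (X ⊞ Y) := fun i hi => by
  letI := HasDerivedCategory.standard A
  have := L00.RDerLES.additive F i
  exact (L00.RDerLES.exact₂ F (ShortComplex.Splitting.ofHasBinaryBiproduct X Y).shortExact i).isZero_X₂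
    ((hX i hi).eq_of_src _ _) ((hY i hi).eq_of_tgt _ _)

variable {n} (hdim : ∀ (X : A) (i : ℕ), n < i → IsZero ((F.rightDerived i).obj X))

include hdim in
/-- Every complex receives a quasi-isomorphism from a complex concentrated in the top degree. -/
theorem exists_qis_top (hP : ∀ X : A, ∃ (Y : A) (p : Y ⟶ X), Epi p ∧ Top F n Y) (K : CochainComplex A ℤ) :
    ∃ (T : CochainComplex A ℤ) (f : T ⟶ K), QuasiIso f ∧ ∀ p, Top F n (T.X p) := by
  choose E e he hE using hP
  suffices h : ∀ (m : ℕ) (K : CochainComplex A ℤ),
      (∀ p i, i + m < n → IsZero ((F.rightDerived i).obj (K.X p))) →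
      ∃ (T : CochainComplex A ℤ) (f : T ⟶ K), QuasiIso f ∧ ∀ p, Top F n (T.X p) from
    h n K (fun p i hi => absurd hi (by omega))
  intro m
  induction m with
  | zero =>
    refine fun K hK => ⟨K, 𝟙 K, inferInstance, fun p i hi => ?_⟩
    rcases Nat.lt_or_gt_of_ne hi with h | h
    · exact hK p i (by omega)
    · exact hdim _ i h
  | succ m ih =>
    intro K hK
    letI := HasDerivedCategory.standard A
    have := he
    have := epi_coverπ E e K
    let S := ShortComplex.mk (kernel.ι (coverπ E e K)) (coverπ E e K) (kernel.condition _)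
    have hS : S.ShortExact := { exact := ShortComplex.exact_of_f_is_kernel _ (kernelIsKernel _) }
    have hJ : ∀ p, Top F n ((coverCx E K).X p) := fun p => top_biprod F n (hE _) (hE _)
    obtain ⟨T, g, hg, hT⟩ := ih S.X₁ (fun p i hi => by
      have hp := hS.map_of_exact (HomologicalComplex.eval A (ComplexShape.up ℤ) p)
      cases i with
      | zero =>
        have : Mono ((F.rightDerived 0).map (S.f.f p)) := L00.RDerLES.mono_zero F hp
        exact IsZero.of_mono ((F.rightDerived 0).map (S.f.f p)) (hJ p 0 (by omega))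
      | succ i =>
        have : Epi ((F.rightDerived i).map (S.map (HomologicalComplex.eval A (ComplexShape.up ℤ) p)).g) := ⟨fun a b _ => (hK p i (by omega)).eq_of_src a b⟩
        exact L00.RDerLES.isZero_X₁ F hp i (hJ p (i + 1) (by omega)))
    let c : mappingCone (g ≫ S.f) ⟶ mappingCone S.f := mappingCone.map (g ≫ S.f) S.f g (𝟙 _) (Category.comp_id _)
    have hc : QuasiIso c := by
      rw [← DerivedCategory.isIso_Q_map_iff_quasiIso]
      have := (DerivedCategory.isIso_Q_map_iff_quasiIso (C := A) g).2 hg
      exact Pretriangulated.isIso₃_of_isIso₁₂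
        (DerivedCategory.Q.mapTriangle.map (mappingCone.triangleMap (g ≫ S.f) S.f g (𝟙 _) (Category.comp_id _)))
        (by rw [DerivedCategory.mem_distTriang_iff]; exact ⟨_, _, g ≫ S.f, ⟨Iso.refl _⟩⟩)
        (by rw [DerivedCategory.mem_distTriang_iff]; exact ⟨_, _, S.f, ⟨Iso.refl _⟩⟩)
        this (inferInstanceAs (IsIso ((DerivedCategory.Q (C := A)).map (𝟙 S.X₂))))
    have := mappingCone.quasiIso_descShortComplex hS
    refine ⟨mappingCone (g ≫ S.f), c ≫ mappingCone.descShortComplex S, inferInstance, fun p => ?_⟩
    exact (Top F n).prop_of_iso (HomologicalComplex.homotopyCofiber.XIsoBiprod (g ≫ S.f) p (p + 1) rfl).symm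
      (top_biprod F n (hT _) (hJ p))

end Groth.L10.CdDim
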