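import Groth.Agent.L10.CdDim.Seq
import Mathlib.Algebra.Homology.HomotopyCategory
import Mathlib.Algebra.Homology.HomologicalComplexAbelian
import Mathlib.Algebra.Homology.QuasiIso

/-! Functorial-up-to-choice embedding of complexes into contractible complexes, and its iteration. -/

universe v u

open CategoryTheory CategoryTheory.Limits

set_option backward.defeqAttrib.useBackward true
set_option backward.isDefEq.respectTransparency false
set_option backward.isDefEq.respectTransparency.types false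
namespace Groth.L10.CdDim

variable {A : Type u} [Category.{v} A] [Abelian A]

/-- A choice of embedding of every object. -/
structure Emb (A : Type u) [Category.{v} A] [Abelian A] where
  E : A → A
  e : ∀ X, X ⟶ E X
  mono : ∀ X, Mono (e X)

instance (𝔈 : Emb A) (X : A) : Mono (𝔈.e X) := 𝔈.mono X

variable (A) in
/-- The embedding into injectives. -/
noncomputable def injEmb [EnoughInjectives A] : Emb A :=
  ⟨Injective.under, Injective.ι, fun _ => inferInstance⟩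

variable (A) in
theorem injective_injEmb [EnoughInjectives A] (X : A) : Injective ((injEmb A).E X) :=
  Injective.injective_under X

namespace Emb

variable (𝔈 : Emb A) (K L : CochainComplex A ℤ)

/-- The contractible complex containing `K`. -/
noncomputable def jc : CochainComplex A ℤ :=
  CochainComplex.of (fun p => 𝔈.E (K.X p) ⊞ 𝔈.E (K.X (p + 1))) (fun p => biprod.snd ≫ biprod.inl)
    (fun p => by simp)

theorem jc_d (p : ℤ) : (𝔈.jc K).d p (p + 1) = (biprod.snd ≫ biprod.inl :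
    𝔈.E (K.X p) ⊞ 𝔈.E (K.X (p + 1)) ⟶ 𝔈.E (K.X (p + 1)) ⊞ 𝔈.E (K.X (p + 1 + 1))) := by simp [jc]

/-- The embedding. -/
noncomputable def ιc : K ⟶ 𝔈.jc K where
  f p := biprod.lift (𝔈.e _) (K.d p (p + 1) ≫ 𝔈.e _)
  comm' i j hij := by
    obtain rfl : i + 1 = j := hij
    rw [jc_d]
    apply biprod.hom_ext
    · simp
    · simp

instance mono_ιc_f (p : ℤ) : Mono ((𝔈.ιc K).f p) :=
  mono_of_mono_fac (biprod.lift_fst (𝔈.e (K.X p)) (K.d p (p + 1) ≫ 𝔈.e _))

instance mono_ιc : Mono (𝔈.ιc K) := HomologicalComplex.mono_of_mono_f _ fun _ => inferInstance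

/-- It is contractible. -/
theorem acyclic_jc : (𝔈.jc K).Acyclic := by
  let h : ∀ i j : ℤ, (ComplexShape.up ℤ).Rel j i → ((𝔈.jc K).X i ⟶ (𝔈.jc K).X j) := fun i j hji =>
    eqToHom (congrArg _ hji.symm) ≫
      (biprod.fst ≫ biprod.inr : 𝔈.E (K.X (j + 1)) ⊞ 𝔈.E (K.X (j + 1 + 1)) ⟶ 𝔈.E (K.X j) ⊞ 𝔈.E (K.X (j + 1)))
  have heq : Homotopy.nullHomotopicMap' h = 𝟙 _ := by
    ext i : 1
    obtain ⟨k, rfl⟩ : ∃ k, i = k + 1 := ⟨i - 1, by omega⟩
    rw [Homotopy.nullHomotopicMap'_f (k₂ := k) (k₁ := k + 1) (k₀ := k + 1 + 1) rfl rfl, jc_d, jc_d]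
    simp only [h, eqToHom_refl, Category.id_comp]
    apply biprod.hom_ext' <;> apply biprod.hom_ext <;> simp [jc]
  intro i
  rw [HomologicalComplex.exactAt_iff_isZero_homology, IsZero.iff_id_eq_zero,
    ← HomologicalComplex.homologyMap_id, ← heq,
    (Homotopy.nullHomotopy' h).homologyMap_eq i, HomologicalComplex.homologyMap_zero]

/-- The cokernel of the embedding. -/
noncomputable def next : CochainComplex A ℤ := cokernel (𝔈.ιc K)

/-- The iterated cokernels. -/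
noncomputable def zc : ℕ → CochainComplex A ℤ
  | 0 => K
  | j + 1 => 𝔈.next (zc j)

/-- The short exact sequences of complexes. -/
noncomputable def sc (j : ℕ) : ShortComplex (CochainComplex A ℤ) :=
  ShortComplex.mk (X₁ := 𝔈.zc K j) (X₃ := 𝔈.zc K (j + 1)) (𝔈.ιc (𝔈.zc K j)) (cokernel.π _) (cokernel.condition _)

theorem sc_shortExact (j : ℕ) : (𝔈.sc K j).ShortExact where
  exact := ShortComplex.exact_of_g_is_cokernel _ (cokernelIsCokernel (𝔈.ιc (𝔈.zc K j)))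
  mono_f := inferInstanceAs (Mono (𝔈.ιc _))
  epi_g := inferInstanceAs (Epi (cokernel.π _))

/-- The sequence in each degree. -/
noncomputable def seq (p : ℤ) : Seq A where
  Z j := (𝔈.zc K j).X p
  J j := (𝔈.jc (𝔈.zc K j)).X p
  ι j := (𝔈.sc K j).f.f p
  p j := (𝔈.sc K j).g.f p
  w j := by rw [← HomologicalComplex.comp_f, (𝔈.sc K j).zero]; rfl
  shortExact j := (𝔈.sc_shortExact K j).map_of_exact (HomologicalComplex.eval A (ComplexShape.up ℤ) p)

theorem seq_J (p : ℤ) (j : ℕ) :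
    (𝔈.seq K p).J j = (𝔈.E ((𝔈.zc K j).X p) ⊞ 𝔈.E ((𝔈.zc K j).X (p + 1))) := rfl

theorem injective_seq_J (h : ∀ X, Injective (𝔈.E X)) (p : ℤ) (j : ℕ) : Injective ((𝔈.seq K p).J j) :=
  have := h ((𝔈.zc K j).X p)
  have := h ((𝔈.zc K j).X (p + 1))
  inferInstanceAs (Injective (𝔈.E ((𝔈.zc K j).X p) ⊞ 𝔈.E ((𝔈.zc K j).X (p + 1))))

variable {K L} (h : ∀ X, Injective (𝔈.E X))

/-- Extension of a map of objects. -/
noncomputable def ext {X Y : A} (φ : X ⟶ Y) : 𝔈.E X ⟶ 𝔈.E Y :=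
  haveI := h Y
  Injective.factorThru (φ ≫ 𝔈.e Y) (𝔈.e X)

theorem e_ext {X Y : A} (φ : X ⟶ Y) : 𝔈.e X ≫ 𝔈.ext h φ = φ ≫ 𝔈.e Y :=
  haveI := h Y
  Injective.comp_factorThru _ _

/-- Extension of a map of complexes. -/
noncomputable def jMap (φ : K ⟶ L) : 𝔈.jc K ⟶ 𝔈.jc L where
  f p := biprod.map (𝔈.ext h (φ.f p)) (𝔈.ext h (φ.f (p + 1)))
  comm' i j hij := by
    obtain rfl : i + 1 = j := hij
    rw [jc_d, jc_d]
    apply biprod.hom_ext' <;> apply biprod.hom_ext <;> simp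

theorem ιc_jMap (φ : K ⟶ L) : 𝔈.ιc K ≫ 𝔈.jMap h φ = φ ≫ 𝔈.ιc L := by
  ext p : 1
  apply biprod.hom_ext
  · simp [ιc, jMap, e_ext]
  · simp [ιc, jMap, e_ext]

/-- The map of cokernels. -/
noncomputable def nextMap (φ : K ⟶ L) : 𝔈.next K ⟶ 𝔈.next L :=
  cokernel.map _ _ φ (𝔈.jMap h φ) (𝔈.ιc_jMap h φ)

/-- The iterated maps. -/
noncomputable def zMap (φ : K ⟶ L) : ∀ j, 𝔈.zc K j ⟶ 𝔈.zc L j
  | 0 => φ
  | j + 1 => 𝔈.nextMap h (zMap φ j)

/-- The map of short exact sequences. -/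
noncomputable def scMap (φ : K ⟶ L) (j : ℕ) : 𝔈.sc K j ⟶ 𝔈.sc L j where
  τ₁ := 𝔈.zMap h φ j
  τ₂ := 𝔈.jMap h (𝔈.zMap h φ j)
  τ₃ := 𝔈.zMap h φ (j + 1)
  comm₁₂ := (𝔈.ιc_jMap h _).symm
  comm₂₃ := (cokernel.π_desc _ _ _).symm

/-- The map of sequences in each degree. -/
noncomputable def seqMap (φ : K ⟶ L) (p : ℤ) : Seq.Hom (𝔈.seq K p) (𝔈.seq L p) where
  z j := (𝔈.zMap h φ j).f p
  jm j := (𝔈.jMap h (𝔈.zMap h φ j)).f p
  comm_ι j := congrArg (fun g => g.f p) (𝔈.scMap h φ j).comm₁₂.symm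
  comm_p j := congrArg (fun g => g.f p) (𝔈.scMap h φ j).comm₂₃

end Emb

end Groth.L10.CdDim
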