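import Groth.Agent.L10.CdDim.Acyclic

/-! The top derived functor of a functor of finite cohomological dimension, termwise. -/

universe v u v' u'

open CategoryTheory CategoryTheory.Limits

set_option backward.defeqAttrib.useBackward true
set_option backward.isDefEq.respectTransparency false
set_option backward.isDefEq.respectTransparency.types false
namespace Groth.L10.CdDim

variable {A : Type u} [Category.{v} A] [Abelian A] [EnoughInjectives A]
  {B : Type u'} [Category.{v'} B] [Abelian B] (F : A ⥤ B) [F.Additive]

/-- The differentials as a map of sequences. -/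
noncomputable def seqD (K : CochainComplex A ℤ) (p p' : ℤ) :
    Seq.Hom ((injEmb A).seq K p) ((injEmb A).seq K p') where
  z j := ((injEmb A).zc K j).d p p'
  jm j := ((injEmb A).jc ((injEmb A).zc K j)).d p p'
  comm_ι j := ((injEmb A).sc K j).f.comm p p'
  comm_p j := ((injEmb A).sc K j).g.comm p p' |>.symm

variable (n : ℕ) [(F.rightDerived n).Additive]

/-- The comparison with the top derived functor. -/
noncomputable def qMap (K : CochainComplex A ℤ) :
    (F.mapHomologicalComplex (.up ℤ)).obj ((injEmb A).zc K n) ⟶
      ((F.rightDerived n).mapHomologicalComplex (.up ℤ)).obj K where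
  f p := ((injEmb A).seq K p).q F ((injEmb A).injective_seq_J K (injective_injEmb A) p) n
  comm' p p' _ := (Seq.q_naturality F ((injEmb A).injective_seq_J K (injective_injEmb A) p)
    ((injEmb A).injective_seq_J K (injective_injEmb A) p') (seqD K p p') n).symm

theorem qMap_naturality {K L : CochainComplex A ℤ} (φ : K ⟶ L) :
    (F.mapHomologicalComplex (.up ℤ)).map ((injEmb A).zMap (injective_injEmb A) φ n) ≫ qMap F n L =
      qMap F n K ≫ ((F.rightDerived n).mapHomologicalComplex (.up ℤ)).map φ := by
  ext p : 1
  exact Seq.q_naturality F ((injEmb A).injective_seq_J K (injective_injEmb A) p)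
    ((injEmb A).injective_seq_J L (injective_injEmb A) p) ((injEmb A).seqMap (injective_injEmb A) φ p) n

variable [PreservesFiniteLimits F] {N : ℕ} (hN : ∀ (i : ℕ) (X : A), N < i → IsZero ((F.rightDerived i).obj X))

/-- The image of the sequences of complexes. -/
noncomputable abbrev Fsc (K : CochainComplex A ℤ) (j : ℕ) : ShortComplex (CochainComplex B ℤ) :=
  ((injEmb A).sc K j).map (F.mapHomologicalComplex (.up ℤ))

include hN in
theorem acyclic_Fjc (L : CochainComplex A ℤ) :
    ((F.mapHomologicalComplex (.up ℤ)).obj ((injEmb A).jc L)).Acyclic :=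
  acyclic_map F hN _ ((injEmb A).acyclic_jc L) fun p => by
    have := injective_injEmb A (L.X p)
    have := injective_injEmb A (L.X (p + 1))
    exact facyc_biprod F (facyc_injective F _) (facyc_injective F _)

variable {K : CochainComplex A ℤ}

theorem Fsc_shortExact (j : ℕ) (h : ∀ p, IsZero ((F.rightDerived (j + 1)).obj (K.X p))) :
    (Fsc F K j).ShortExact := by
  refine HomologicalComplex.shortExact_of_degreewise_shortExact _ fun p => ?_
  let S := (injEmb A).seq K p
  have : Epi (F.map (S.p j)) := S.epi_map_p F ((injEmb A).injective_seq_J K (injective_injEmb A) p) j (h p)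
  have hs := S.shortExact j
  have he : ((ShortComplex.mk (S.ι j) (S.p j) (S.w j)).map F).Exact :=
    hs.exact.map_of_mono_of_preservesKernel F hs.mono_f inferInstance
  exact { exact := he, mono_f := (inferInstance : Mono (F.map (S.ι j))), epi_g := this }

include hN in
theorem acyclic_Fzc (hK : ∀ (i : ℕ) (p : ℤ), i < n → IsZero ((F.rightDerived i).obj (K.X p))) :
    ∀ j, j < n → ((F.mapHomologicalComplex (.up ℤ)).obj ((injEmb A).zc K j)).Acyclic
  | 0, h => fun p => by
    refine ShortComplex.exact_of_isZero_X₂ _ ?_
    let S := (injEmb A).seq K p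
    have := S.isIso_q_zero F ((injEmb A).injective_seq_J K (injective_injEmb A) p)
    exact (hK 0 p h).of_iso (asIso (S.q F ((injEmb A).injective_seq_J K (injective_injEmb A) p) 0))
  | j + 1, h => by
    have hS := Fsc_shortExact F (K := K) j (fun p => hK (j + 1) p h)
    have h₁ := acyclic_Fzc hK j (by omega)
    intro i
    rw [HomologicalComplex.exactAt_iff_isZero_homology]
    exact (hS.homology_exact₃ i (i + 1) rfl).isZero_X₂
      ((acyclic_Fjc F hN _ i).isZero_homology.eq_of_src _ _) ((h₁ (i + 1)).isZero_homology.eq_of_tgt _ _)

include hN in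
/-- On complexes whose terms are concentrated in the top degree the comparison is a quasi-isomorphism. -/
theorem quasiIso_qMap (hK : ∀ (i : ℕ) (p : ℤ), i < n → IsZero ((F.rightDerived i).obj (K.X p))) :
    QuasiIso (qMap F n K) := by
  cases n with
  | zero =>
    have : ∀ p, IsIso ((qMap F 0 K).f p) := fun p =>
      ((injEmb A).seq K p).isIso_q_zero F ((injEmb A).injective_seq_J K (injective_injEmb A) p)
    have := HomologicalComplex.Hom.isIso_of_components (qMap F 0 K)
    infer_instance
  | succ m =>
    let q := qMap F (m + 1) K
    have hw : (Fsc F K m).g ≫ q = 0 := by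
      ext p : 1
      exact ((injEmb A).seq K p).p_q F ((injEmb A).injective_seq_J K (injective_injEmb A) p) m
    have : Epi q := by
      have : ∀ p, Epi (q.f p) := fun p =>
        ((injEmb A).seq K p).epi_q F ((injEmb A).injective_seq_J K (injective_injEmb A) p) (m + 1)
      exact HomologicalComplex.epi_of_epi_f q this
    have hex : (ShortComplex.mk (Fsc F K m).g q hw).Exact :=
      HomologicalComplex.exact_of_degreewise_exact _ fun p =>
        ((injEmb A).seq K p).exact_q F ((injEmb A).injective_seq_J K (injective_injEmb A) p) m
    have hex' : (Fsc F K m).Exact := HomologicalComplex.exact_of_degreewise_exact _ fun p => by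
      have hs := ((injEmb A).seq K p).shortExact m
      exact hs.exact.map_of_mono_of_preservesKernel F hs.mono_f inferInstance
    have : Mono (Fsc F K m).f := HomologicalComplex.mono_of_mono_f _ fun p => by
      have := (((injEmb A).seq K p).shortExact m).mono_f
      exact inferInstanceAs (Mono (F.map (((injEmb A).seq K p).ι m)))
    let l := kernel.lift q (Fsc F K m).g hw
    have : Epi l := hex.epi_kernelLift
    let T := ShortComplex.mk (Fsc F K m).f l
      (by rw [← cancel_mono (kernel.ι q), Category.assoc, kernel.lift_ι, (Fsc F K m).zero, zero_comp])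
    have hT : T.ShortExact :=
      { exact := by
          let α : T ⟶ Fsc F K m :=
            { τ₁ := 𝟙 _, τ₂ := 𝟙 _, τ₃ := kernel.ι q
              comm₁₂ := by simp [T]
              comm₂₃ := by simp [T, l] }
          exact (ShortComplex.exact_iff_of_epi_of_isIso_of_mono α).2 hex' }
    have hker : (kernel q).Acyclic := fun i => by
      rw [HomologicalComplex.exactAt_iff_isZero_homology]
      exact (hT.homology_exact₃ i (i + 1) rfl).isZero_X₂
        ((acyclic_Fjc F hN _ i).isZero_homology.eq_of_src _ _)
        ((acyclic_Fzc F (m + 1) hN hK m (by omega) (i + 1)).isZero_homology.eq_of_tgt _ _)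
    have hU : (ShortComplex.mk (kernel.ι q) q (kernel.condition q)).ShortExact :=
      { exact := ShortComplex.exact_of_f_is_kernel _ (kernelIsKernel q) }
    rw [quasiIso_iff]
    intro i
    rw [quasiIsoAt_iff_isIso_homologyMap]
    have : Mono (HomologicalComplex.homologyMap q i) :=
      (hU.homology_exact₂ i).mono_g ((hker i).isZero_homology.eq_of_src _ _)
    have : Epi (HomologicalComplex.homologyMap q i) :=
      (hU.homology_exact₃ i (i + 1) rfl).epi_f ((hker (i + 1)).isZero_homology.eq_of_tgt _ _)
    exact isIso_of_mono_of_epi _

end Groth.L10.CdDim
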