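import Groth.Agent.L10.CdDim.RDer
import Groth.Agent.L10.CdDim.Cover
import Groth.Agent.L10.CdDim.TopMap
import Groth.Agent.L10.CdDim.Connect
import Mathlib.CategoryTheory.Functor.Derived.LeftDerived

/-! The derived functor of a functor of finite cohomological dimension as a shifted left derived
functor of its top derived functor. -/

universe w w' v u v' u'

open CategoryTheory CategoryTheory.Limits

set_option backward.defeqAttrib.useBackward true
set_option backward.isDefEq.respectTransparency false
set_option backward.isDefEq.respectTransparency.types false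
namespace Groth.L10.CdDim

variable {A : Type u} [Category.{v} A] [Abelian A] [EnoughInjectives A] [HasDerivedCategory.{w} A]
  {B : Type u'} [Category.{v'} B] [Abelian B] [HasDerivedCategory.{w'} B]
  (F : A ⥤ B) [F.Additive] [PreservesFiniteLimits F] (n : ℕ) [(F.rightDerived n).Additive]
  (hdim : ∀ (X : A) (i : ℕ), n < i → IsZero ((F.rightDerived i).obj X))
  (hP : ∀ X : A, ∃ (Y : A) (p : Y ⟶ X), Epi p ∧ Top F n Y)

omit [HasDerivedCategory.{w'} B] in
include hdim in
theorem quasiIso_G_map {K L : CochainComplex A ℤ} (f : K ⟶ L) [QuasiIso f]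
    (hK : ∀ p, Top F n (K.X p)) (hL : ∀ p, Top F n (L.X p)) :
    QuasiIso (((F.rightDerived n).mapHomologicalComplex (.up ℤ)).map f) := by
  have hz : QuasiIso ((injEmb A).zMap (injective_injEmb A) f n) := by
    rw [← DerivedCategory.isIso_Q_map_iff_quasiIso]
    have : IsIso ((DerivedCategory.Q (C := A)).map f) := (DerivedCategory.isIso_Q_map_iff_quasiIso (C := A) _).2 inferInstance
    have h := theta_naturality (injEmb A) (injective_injEmb A) f n
    rw [← Iso.eq_comp_inv] at h
    rw [h]
    infer_instance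
  have hN : ∀ (i : ℕ) (X : A), n < i → IsZero ((F.rightDerived i).obj X) := fun i X => hdim X i
  have := quasiIso_map F hN ((injEmb A).zMap (injective_injEmb A) f n) (facyc_zc F hN K) (facyc_zc F hN L)
  have := quasiIso_qMap F n hN (K := K) (fun i p hi => hK p i (by omega))
  have := quasiIso_qMap F n hN (K := L) (fun i p hi => hL p i (by omega))
  have : QuasiIso (qMap F n K ≫ ((F.rightDerived n).mapHomologicalComplex (.up ℤ)).map f) := by
    rw [← qMap_naturality]
    infer_instance
  exact quasiIso_of_comp_left (qMap F n K) _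

include hdim in
theorem isIso_Q_G_map {K L : CochainComplex A ℤ} (f : K ⟶ L) [QuasiIso f]
    (hK : ∀ p, Top F n (K.X p)) (hL : ∀ p, Top F n (L.X p)) :
    IsIso (((F.rightDerived n).mapHomologicalComplex (.up ℤ) ⋙ DerivedCategory.Q).map f) :=
  (DerivedCategory.isIso_Q_map_iff_quasiIso (C := B) _).2 (quasiIso_G_map F n hdim f hK hL)

omit [HasDerivedCategory.{w} A] [HasDerivedCategory.{w'} B] in
include hdim hP in
theorem exists_left_res (Z : HomotopyCategory A (ComplexShape.up ℤ)) :
    ∃ (X : CochainComplex A ℤ) (s : (HomotopyCategory.quotient A (ComplexShape.up ℤ)).obj X ⟶ Z),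
      HomotopyCategory.quasiIso A (ComplexShape.up ℤ) s ∧ ∀ p, Top F n (X.X p) := by
  obtain ⟨K, rfl⟩ := HomotopyCategory.quotient_obj_surjective Z
  obtain ⟨T, f, hf, hT⟩ := exists_qis_top F hdim hP K
  exact ⟨T, (HomotopyCategory.quotient _ _).map f,
    (HomotopyCategory.quotient_map_mem_quasiIso_iff f).2 ((HomologicalComplex.mem_quasiIso_iff f).2 hf), hT⟩

include hdim hP in
/-- The left derived functor of the top derived functor exists. -/
theorem hasLeftDerived :
    ((F.rightDerived n).mapHomologicalComplex (.up ℤ) ⋙ DerivedCategory.Q).HasPointwiseLeftDerivedFunctor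
      (HomologicalComplex.quasiIso A (ComplexShape.up ℤ)) :=
  hasPointwiseLeftDerivedFunctor (HomotopyCategory.quotient A (ComplexShape.up ℤ)) DerivedCategory.Qh
    (HomotopyCategory.quasiIso A (ComplexShape.up ℤ))
    ((F.rightDerived n).mapHomologicalComplex (.up ℤ) ⋙ DerivedCategory.Q)
    (fun g g' h => map_eq_of_homotopic (F.rightDerived n) g g' h)
    (fun X => ∀ p, Top F n (X.X p)) (fun s hX hY hs => by
      rw [HomotopyCategory.quotient_map_mem_quasiIso_iff, HomologicalComplex.mem_quasiIso_iff] at hs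
      exact isIso_Q_G_map F n hdim s hX hY)
    (exists_left_res F n hdim hP)
    (fun Z => by
      obtain ⟨T, f, hf, hT⟩ := exists_qis_top F hdim hP Z
      exact ⟨T, f, (HomologicalComplex.mem_quasiIso_iff f).2 hf, hT⟩)

include hdim hP in
theorem isIso_counit {LG : DerivedCategory A ⥤ DerivedCategory B}
    (α : DerivedCategory.Q ⋙ LG ⟶ (F.rightDerived n).mapHomologicalComplex (.up ℤ) ⋙ DerivedCategory.Q)
    [hα : LG.IsLeftDerivedFunctor α (HomologicalComplex.quasiIso A (ComplexShape.up ℤ))]
    (K : CochainComplex A ℤ) (hK : ∀ p, Top F n (K.X p)) : IsIso (α.app K) := by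
  let α' : (HomotopyCategory.quotient A (ComplexShape.up ℤ) ⋙ DerivedCategory.Qh) ⋙ LG ⟶
      (F.rightDerived n).mapHomologicalComplex (.up ℤ) ⋙ DerivedCategory.Q := α
  have : LG.IsLeftDerivedFunctor α' (HomologicalComplex.quasiIso A (ComplexShape.up ℤ)) := ⟨hα.isRightKanExtension⟩
  exact isIso_app_left (HomotopyCategory.quotient A (ComplexShape.up ℤ)) DerivedCategory.Qh
    (HomotopyCategory.quasiIso A (ComplexShape.up ℤ))
    ((F.rightDerived n).mapHomologicalComplex (.up ℤ) ⋙ DerivedCategory.Q)
    (fun g g' h => map_eq_of_homotopic (F.rightDerived n) g g' h)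
    (fun X => ∀ p, Top F n (X.X p)) (fun s hX hY hs => by
      rw [HomotopyCategory.quotient_map_mem_quasiIso_iff, HomologicalComplex.mem_quasiIso_iff] at hs
      exact isIso_Q_G_map F n hdim s hX hY)
    (exists_left_res F n hdim hP)
    (fun Z => by
      obtain ⟨T, f, hf, hT⟩ := exists_qis_top F hdim hP Z
      exact ⟨T, f, (HomologicalComplex.mem_quasiIso_iff f).2 hf, hT⟩) α' hK

section Beta

variable {RF : DerivedCategory A ⥤ DerivedCategory B}
  (α : F.mapHomologicalComplex (.up ℤ) ⋙ DerivedCategory.Q ⟶ DerivedCategory.Q ⋙ RF)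
  [RF.IsRightDerivedFunctor α (HomologicalComplex.quasiIso A (ComplexShape.up ℤ))]

/-- The shifted cokernel complex. -/
noncomputable abbrev Yc (K : CochainComplex A ℤ) : CochainComplex A ℤ :=
  (CategoryTheory.shiftFunctor (CochainComplex A ℤ) (-(n : ℤ))).obj ((injEmb A).zc K n)

include hdim in
theorem isIso_α_Yc (K : CochainComplex A ℤ) : IsIso (α.app (Yc n K)) :=
  isIso_unit F (fun i X => hdim X i) α (Yc n K) (fun p => facyc_zc F (fun i X => hdim X i) K _)

/-- The comparison before shifting. -/
noncomputable def beta0 (K : CochainComplex A ℤ) :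
    RF.obj (DerivedCategory.Q.obj K) ⟶
      (CategoryTheory.shiftFunctor (DerivedCategory B) (-(n : ℤ))).obj
        (DerivedCategory.Q.obj (((F.rightDerived n).mapHomologicalComplex (.up ℤ)).obj K)) :=
  haveI := isIso_α_Yc F n hdim α K
  RF.map (thetaInv (injEmb A) K n).inv ≫ inv (α.app (Yc n K)) ≫
    DerivedCategory.Q.map (((F.mapHomologicalComplex (.up ℤ)).commShiftIso (-(n : ℤ))).hom.app ((injEmb A).zc K n)) ≫
    (DerivedCategory.Q.commShiftIso (-(n : ℤ))).hom.app _ ≫
    (CategoryTheory.shiftFunctor (DerivedCategory B) (-(n : ℤ))).map (DerivedCategory.Q.map (qMap F n K))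

include hdim in
theorem beta0_naturality {K L : CochainComplex A ℤ} (φ : K ⟶ L) :
    RF.map (DerivedCategory.Q.map φ) ≫ beta0 F n hdim α L =
      beta0 F n hdim α K ≫ (CategoryTheory.shiftFunctor (DerivedCategory B) (-(n : ℤ))).map
        (DerivedCategory.Q.map (((F.rightDerived n).mapHomologicalComplex (.up ℤ)).map φ)) := by
  have := isIso_α_Yc F n hdim α K
  have := isIso_α_Yc F n hdim α L
  let z := (injEmb A).zMap (injective_injEmb A) φ n
  let z' := (CategoryTheory.shiftFunctor (CochainComplex A ℤ) (-(n : ℤ))).map z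
  have e0 : RF.map (DerivedCategory.Q.map φ) ≫ RF.map (thetaInv (injEmb A) L n).inv =
      RF.map (thetaInv (injEmb A) K n).inv ≫ RF.map (DerivedCategory.Q.map z') := by
    rw [← RF.map_comp, ← RF.map_comp]
    congr 1
    rw [Iso.comp_inv_eq, Category.assoc, Iso.eq_inv_comp]
    exact (thetaInv_naturality (injEmb A) (injective_injEmb A) φ n).symm
  have e1 : RF.map (DerivedCategory.Q.map z') ≫ inv (α.app (Yc n L)) =
      inv (α.app (Yc n K)) ≫ DerivedCategory.Q.map ((F.mapHomologicalComplex (.up ℤ)).map z') := by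
    rw [IsIso.comp_inv_eq, Category.assoc, IsIso.eq_inv_comp]
    exact (α.naturality z').symm
  have e2 := congrArg (fun m => DerivedCategory.Q.map m)
    (((F.mapHomologicalComplex (.up ℤ)).commShiftIso (-(n : ℤ))).hom.naturality z)
  have e3 := (DerivedCategory.Q.commShiftIso (C := CochainComplex B ℤ) (-(n : ℤ))).hom.naturality ((F.mapHomologicalComplex (.up ℤ)).map z)
  have e4 := congrArg (fun m => (CategoryTheory.shiftFunctor (DerivedCategory B) (-(n : ℤ))).map
    (DerivedCategory.Q.map m)) (qMap_naturality F n φ)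
  simp only [Functor.comp_map, Functor.map_comp] at e2 e3 e4
  unfold beta0
  simp only [Category.assoc]
  rw [reassoc_of% e0, reassoc_of% e1, reassoc_of% e2, reassoc_of% e3, e4]

include hdim in
theorem isIso_beta0 (K : CochainComplex A ℤ) (hK : ∀ p, Top F n (K.X p)) : IsIso (beta0 F n hdim α K) := by
  have := isIso_α_Yc F n hdim α K
  have := quasiIso_qMap F n (fun i X => hdim X i) (K := K) (fun i p hi => hK p i (by omega))
  have : IsIso (DerivedCategory.Q.map (qMap F n K)) := (DerivedCategory.isIso_Q_map_iff_quasiIso (C := B) _).2 inferInstance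
  unfold beta0
  infer_instance

/-- The comparison transformation. -/
noncomputable def beta :
    DerivedCategory.Q ⋙ RF ⋙ CategoryTheory.shiftFunctor (DerivedCategory B) (n : ℤ) ⟶
      (F.rightDerived n).mapHomologicalComplex (.up ℤ) ⋙ DerivedCategory.Q where
  app K := (CategoryTheory.shiftFunctor (DerivedCategory B) (n : ℤ)).map (beta0 F n hdim α K) ≫
    (shiftFunctorCompIsoId (DerivedCategory B) (-(n : ℤ)) (n : ℤ) (by omega)).hom.app _
  naturality K L φ := by
    have h := (shiftFunctorCompIsoId (DerivedCategory B) (-(n : ℤ)) (n : ℤ) (by omega)).hom.naturality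
      (DerivedCategory.Q.map (((F.rightDerived n).mapHomologicalComplex (.up ℤ)).map φ))
    simp only [Functor.comp_map, Functor.id_map] at h ⊢
    rw [← Functor.map_comp_assoc, beta0_naturality, Functor.map_comp_assoc, h, Category.assoc]

include hdim in
theorem isIso_beta (K : CochainComplex A ℤ) (hK : ∀ p, Top F n (K.X p)) : IsIso ((beta F n hdim α).app K) := by
  have := isIso_beta0 F n hdim α K hK
  unfold beta
  infer_instance

include hdim hP α in
/-- The comparison isomorphism. -/
theorem nonempty_iso {LG : DerivedCategory A ⥤ DerivedCategory B}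
    (αL : DerivedCategory.Q ⋙ LG ⟶ (F.rightDerived n).mapHomologicalComplex (.up ℤ) ⋙ DerivedCategory.Q)
    [LG.IsLeftDerivedFunctor αL (HomologicalComplex.quasiIso A (ComplexShape.up ℤ))] :
    Nonempty (RF ≅ LG ⋙ CategoryTheory.shiftFunctor (DerivedCategory B) (-(n : ℤ))) := by
  let W := HomologicalComplex.quasiIso A (ComplexShape.up ℤ)
  let φ := LG.leftDerivedLift αL W (RF ⋙ CategoryTheory.shiftFunctor (DerivedCategory B) (n : ℤ)) (beta F n hdim α)
  have hφ := LG.leftDerived_fac αL W (RF ⋙ CategoryTheory.shiftFunctor (DerivedCategory B) (n : ℤ)) (beta F n hdim α)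
  have key : ∀ X : CochainComplex A ℤ, (∀ p, Top F n (X.X p)) → IsIso (φ.app (DerivedCategory.Q.obj X)) := fun X hX => by
    have := isIso_counit F n hdim hP αL X hX
    have := isIso_beta F n hdim α X hX
    have h := NatTrans.congr_app hφ X
    simp only [NatTrans.comp_app, Functor.whiskerLeft_app] at h
    have : IsIso (φ.app (DerivedCategory.Q.obj X) ≫ αL.app X) := h ▸ inferInstance
    exact IsIso.of_isIso_comp_right (φ.app (DerivedCategory.Q.obj X)) (αL.app X)
  have : IsIso φ := by
    rw [NatTrans.isIso_iff_isIso_app]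
    intro Y
    have := Localization.essSurj DerivedCategory.Q W
    obtain ⟨T, f, hf, hT⟩ := exists_qis_top F hdim hP ((DerivedCategory.Q (C := A)).objPreimage Y)
    have : IsIso ((DerivedCategory.Q (C := A)).map f) := (DerivedCategory.isIso_Q_map_iff_quasiIso (C := A) f).2 hf
    rw [NatTrans.isIso_app_iff_of_iso φ
      (((DerivedCategory.Q (C := A)).objObjPreimageIso Y).symm ≪≫ (asIso ((DerivedCategory.Q (C := A)).map f)).symm)]
    exact key T hT
  exact ⟨(Functor.rightUnitor RF).symm ≪≫
    Functor.isoWhiskerLeft RF (shiftFunctorCompIsoId (DerivedCategory B) (n : ℤ) (-(n : ℤ)) (by omega)).symm ≪≫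
    (Functor.associator _ _ _).symm ≪≫
    Functor.isoWhiskerRight (asIso φ) (CategoryTheory.shiftFunctor (DerivedCategory B) (-(n : ℤ)))⟩

end Beta

end Groth.L10.CdDim
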