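import Groth.Agent.L10.CdDim.Acyclic
import Mathlib.CategoryTheory.Functor.Derived.RightDerived

/-! Existence of the unbounded right derived functor and its value on complexes of acyclic objects. -/

universe w w' v u v' u'

open CategoryTheory CategoryTheory.Limits CochainComplex

set_option backward.defeqAttrib.useBackward true
set_option backward.isDefEq.respectTransparency false
set_option backward.isDefEq.respectTransparency.types false
namespace Groth.L10.CdDim

variable {A : Type u} [Category.{v} A] [Abelian A] [EnoughInjectives A] [HasDerivedCategory.{w} A]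
  {B : Type u'} [Category.{v'} B] [Abelian B] [HasDerivedCategory.{w'} B]
  (F : A ⥤ B) [F.Additive] [PreservesFiniteLimits F]
  {N : ℕ} (hN : ∀ (i : ℕ) (X : A), N < i → IsZero ((F.rightDerived i).obj X))

include hN in
theorem isIso_Q_map {K L : CochainComplex A ℤ} (f : K ⟶ L) [QuasiIso f]
    (hA : ∀ n, Facyc F (K.X n)) (hB : ∀ n, Facyc F (L.X n)) :
    IsIso ((F.mapHomologicalComplex (.up ℤ) ⋙ DerivedCategory.Q).map f) :=
  (DerivedCategory.isIso_Q_map_iff_quasiIso (C := B) _).2 (quasiIso_map F hN f hA hB)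

include hN in
theorem isIso_Kh_map {X Y : HomotopyCategory A (ComplexShape.up ℤ)} (s : X ⟶ Y)
    (hA : ∀ n, Facyc F (X.as.X n)) (hB : ∀ n, Facyc F (Y.as.X n))
    (hs : HomotopyCategory.quasiIso A (ComplexShape.up ℤ) s) :
    IsIso ((F.mapHomotopyCategory (ComplexShape.up ℤ) ⋙ DerivedCategory.Qh).map s) := by
  obtain ⟨K, rfl⟩ := HomotopyCategory.quotient_obj_surjective X
  obtain ⟨L, rfl⟩ := HomotopyCategory.quotient_obj_surjective Y
  obtain ⟨f, rfl⟩ := (HomotopyCategory.quotient A (ComplexShape.up ℤ)).map_surjective s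
  rw [HomotopyCategory.quotient_map_mem_quasiIso_iff, HomologicalComplex.mem_quasiIso_iff] at hs
  have h := isIso_Q_map F hN f hA hB
  exact h

include hN in
theorem exists_res_hc (Z : HomotopyCategory A (ComplexShape.up ℤ)) :
    ∃ (X : HomotopyCategory A (ComplexShape.up ℤ)) (s : Z ⟶ X),
      HomotopyCategory.quasiIso A (ComplexShape.up ℤ) s ∧ ∀ p, Facyc F (X.as.X p) := by
  obtain ⟨K, rfl⟩ := HomotopyCategory.quotient_obj_surjective Z
  obtain ⟨T, f, hf, hT⟩ := exists_qis_facyc F hN K
  exact ⟨(HomotopyCategory.quotient _ _).obj T, (HomotopyCategory.quotient _ _).map f,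
    (HomotopyCategory.quotient_map_mem_quasiIso_iff f).2 ((HomologicalComplex.mem_quasiIso_iff f).2 hf), hT⟩

instance : (𝟭 (HomotopyCategory A (ComplexShape.up ℤ)) ⋙ (DerivedCategory.Qh : _ ⥤ DerivedCategory A)).IsLocalization
    (HomotopyCategory.quasiIso A (ComplexShape.up ℤ)) :=
  Functor.IsLocalization.of_iso _ (Functor.leftUnitor _).symm

include hN in
/-- Right derivability on the homotopy category. -/
theorem hasRightDerived_Kh :
    (F.mapHomotopyCategory (ComplexShape.up ℤ) ⋙ DerivedCategory.Qh).HasPointwiseRightDerivedFunctor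
      (HomotopyCategory.quasiIso A (ComplexShape.up ℤ)) :=
  hasPointwiseRightDerivedFunctor (𝟭 _) DerivedCategory.Qh (HomotopyCategory.quasiIso A (ComplexShape.up ℤ))
    (F.mapHomotopyCategory (ComplexShape.up ℤ) ⋙ DerivedCategory.Qh) (fun _ _ h => congrArg _ h)
    (fun X => ∀ p, Facyc F (X.as.X p)) (fun s hX hY hs => isIso_Kh_map F hN s hX hY hs)
    (exists_res_hc F hN) (exists_res_hc F hN)

include hN in
/-- The unit is invertible at complexes of acyclic objects. -/
theorem isIso_unit_Kh {RF : DerivedCategory A ⥤ DerivedCategory B}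
    (α : F.mapHomotopyCategory (ComplexShape.up ℤ) ⋙ DerivedCategory.Qh ⟶ DerivedCategory.Qh ⋙ RF)
    [hα : RF.IsRightDerivedFunctor α (HomotopyCategory.quasiIso A (ComplexShape.up ℤ))]
    (K : CochainComplex A ℤ) (hK : ∀ p, Facyc F (K.X p)) :
    IsIso (α.app ((HomotopyCategory.quotient A (ComplexShape.up ℤ)).obj K)) := by
  let α' : F.mapHomotopyCategory (ComplexShape.up ℤ) ⋙ DerivedCategory.Qh ⟶ (𝟭 _ ⋙ DerivedCategory.Qh) ⋙ RF := α
  have : RF.IsRightDerivedFunctor α' (HomotopyCategory.quasiIso A (ComplexShape.up ℤ)) := ⟨hα.isLeftKanExtension⟩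
  exact isIso_app (𝟭 _) DerivedCategory.Qh (HomotopyCategory.quasiIso A (ComplexShape.up ℤ))
    (F.mapHomotopyCategory (ComplexShape.up ℤ) ⋙ DerivedCategory.Qh) (fun _ _ h => congrArg _ h)
    (fun X => ∀ p, Facyc F (X.as.X p)) (fun s hX hY hs => isIso_Kh_map F hN s hX hY hs)
    (exists_res_hc F hN) (exists_res_hc F hN) α' (X := (HomotopyCategory.quotient A (ComplexShape.up ℤ)).obj K) hK

instance : (HomotopyCategory.quotient A (ComplexShape.up ℤ) ⋙ (DerivedCategory.Qh : _ ⥤ DerivedCategory A)).IsLocalization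
    (HomologicalComplex.quasiIso A (ComplexShape.up ℤ)) :=
  Functor.IsLocalization.of_iso _ (DerivedCategory.quotientCompQhIso A).symm

omit [EnoughInjectives A] [PreservesFiniteLimits F] in
theorem map_eq_of_homotopic {K L : CochainComplex A ℤ} (g g' : K ⟶ L)
    (h : (HomotopyCategory.quotient A (ComplexShape.up ℤ)).map g = (HomotopyCategory.quotient A (ComplexShape.up ℤ)).map g') :
    (F.mapHomologicalComplex (.up ℤ) ⋙ DerivedCategory.Q).map g =
      (F.mapHomologicalComplex (.up ℤ) ⋙ DerivedCategory.Q).map g' := by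
  have h' := HomotopyCategory.eq_of_homotopy _ _ (F.mapHomotopy (HomotopyCategory.homotopyOfEq _ _ h))
  exact congrArg DerivedCategory.Qh.map h'

include hN in
/-- The unit is invertible at complexes of acyclic objects, for the functor on complexes. -/
theorem isIso_unit {RF : DerivedCategory A ⥤ DerivedCategory B}
    (α : F.mapHomologicalComplex (.up ℤ) ⋙ DerivedCategory.Q ⟶ DerivedCategory.Q ⋙ RF)
    [hα : RF.IsRightDerivedFunctor α (HomologicalComplex.quasiIso A (ComplexShape.up ℤ))]
    (K : CochainComplex A ℤ) (hK : ∀ p, Facyc F (K.X p)) : IsIso (α.app K) := by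
  let e := (DerivedCategory.quotientCompQhIso A).symm
  let α' : F.mapHomologicalComplex (.up ℤ) ⋙ DerivedCategory.Q ⟶
      (HomotopyCategory.quotient A (ComplexShape.up ℤ) ⋙ DerivedCategory.Qh) ⋙ RF := α
  have : RF.IsRightDerivedFunctor α' (HomologicalComplex.quasiIso A (ComplexShape.up ℤ)) := ⟨hα.isLeftKanExtension⟩
  exact isIso_app (HomotopyCategory.quotient A (ComplexShape.up ℤ)) DerivedCategory.Qh
    (HomotopyCategory.quasiIso A (ComplexShape.up ℤ))
    (F.mapHomologicalComplex (.up ℤ) ⋙ DerivedCategory.Q) (fun g g' h => map_eq_of_homotopic F g g' h)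
    (fun X => ∀ p, Facyc F (X.X p)) (fun s hX hY hs => by
      rw [HomotopyCategory.quotient_map_mem_quasiIso_iff, HomologicalComplex.mem_quasiIso_iff] at hs
      exact isIso_Q_map F hN s hX hY)
    (fun Z => by
      obtain ⟨X, s, hs, hX⟩ := exists_res_hc F hN Z
      exact ⟨X.as, s, hs, hX⟩)
    (fun Z => by
      obtain ⟨T, f, hf, hT⟩ := exists_qis_facyc F hN Z
      exact ⟨T, f, (HomologicalComplex.mem_quasiIso_iff f).2 hf, hT⟩) α' hK

end Groth.L10.CdDim
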