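import Mathlib.CategoryTheory.Abelian.RightDerived
import Mathlib.CategoryTheory.Abelian.Exact
import Mathlib.Algebra.Homology.ShortComplex.ShortExact
import Mathlib.Algebra.Homology.SingleHomology

/-! Iterated short exact sequences, the associated resolutions and right derived functors. -/

universe v u v' u'

open CategoryTheory CategoryTheory.Limits

set_option backward.defeqAttrib.useBackward true
set_option backward.isDefEq.respectTransparency false
set_option backward.isDefEq.respectTransparency.types false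
namespace Groth.L10.CdDim

variable {A : Type u} [Category.{v} A] [Abelian A]

/-- A sequence of short exact sequences `0 ⟶ Z j ⟶ J j ⟶ Z (j + 1) ⟶ 0`. -/
structure Seq (A : Type u) [Category.{v} A] [Abelian A] where
  Z : ℕ → A
  J : ℕ → A
  ι : ∀ j, Z j ⟶ J j
  p : ∀ j, J j ⟶ Z (j + 1)
  w : ∀ j, ι j ≫ p j = 0
  shortExact : ∀ j, (ShortComplex.mk (ι j) (p j) (w j)).ShortExact

namespace Seq

variable (S : Seq A)

instance mono_ι (j : ℕ) : Mono (S.ι j) := (S.shortExact j).mono_f
instance epi_p (j : ℕ) : Epi (S.p j) := (S.shortExact j).epi_g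

/-- The sequence starting at `k`. -/
def shift (k : ℕ) : Seq A where
  Z j := S.Z (k + j)
  J j := S.J (k + j)
  ι j := S.ι (k + j)
  p j := S.p (k + j)
  w j := S.w (k + j)
  shortExact j := S.shortExact (k + j)

/-- The spliced complex. -/
noncomputable def cx : CochainComplex A ℕ :=
  CochainComplex.of S.J (fun j => S.p j ≫ S.ι (j + 1))
    (fun j => by rw [Category.assoc, ← Category.assoc (S.ι (j + 1)), S.w, zero_comp, comp_zero])

theorem cx_X (j : ℕ) : S.cx.X j = S.J j := rfl

theorem cx_d (j : ℕ) : S.cx.d j (j + 1) = S.p j ≫ S.ι (j + 1) := by simp [cx]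

theorem ι_d (j : ℕ) : S.ι j ≫ S.cx.d j (j + 1) = 0 := by rw [cx_d, ← Category.assoc, S.w, zero_comp]

theorem exact_ι_d (j : ℕ) : (ShortComplex.mk (S.ι j) (S.cx.d j (j + 1)) (S.ι_d j)).Exact := by
  let α : ShortComplex.mk (S.ι j) (S.p j) (S.w j) ⟶ ShortComplex.mk (S.ι j) (S.cx.d j (j + 1)) (S.ι_d j) :=
    { τ₁ := 𝟙 _, τ₂ := 𝟙 _, τ₃ := S.ι (j + 1)
      comm₁₂ := (Category.id_comp _).trans (Category.comp_id _).symm
      comm₂₃ := (Category.id_comp _).trans (S.cx_d j) }
  exact (ShortComplex.exact_iff_of_epi_of_isIso_of_mono α).1 (S.shortExact j).exact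

theorem exactAt_succ (j : ℕ) : S.cx.ExactAt (j + 1) := by
  rw [HomologicalComplex.exactAt_iff' _ j (j + 1) (j + 2) (by simp) (by simp)]
  let α : S.cx.sc' j (j + 1) (j + 2) ⟶ ShortComplex.mk (S.ι (j + 1)) (S.cx.d (j + 1) (j + 2)) (S.ι_d _) :=
    { τ₁ := S.p j, τ₂ := 𝟙 _, τ₃ := 𝟙 _
      comm₁₂ := ((Category.comp_id _).trans (S.cx_d j)).symm
      comm₂₃ := (Category.id_comp _).trans (Category.comp_id _).symm }
  have : Epi α.τ₁ := inferInstanceAs (Epi (S.p j))
  exact (ShortComplex.exact_iff_of_epi_of_isIso_of_mono α).2 (S.exact_ι_d (j + 1))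

/-- The resolution given by a sequence with injective middle terms. -/
noncomputable def res (hJ : ∀ j, Injective (S.J j)) : InjectiveResolution (S.Z 0) where
  cocomplex := S.cx
  injective := hJ
  ι := (CochainComplex.fromSingle₀Equiv _ _).symm ⟨S.ι 0, S.ι_d 0⟩
  quasiIso := ⟨fun n => by
    cases n
    · rw [CochainComplex.quasiIsoAt₀_iff, ShortComplex.quasiIso_iff_of_zeros]
      · refine (ShortComplex.exact_and_mono_f_iff_of_iso ?_).2 ⟨S.exact_ι_d 0, S.mono_ι 0⟩
        exact ShortComplex.isoMk (Iso.refl _) (Iso.refl _) (Iso.refl _) (by simp) (by simp)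
      all_goals rfl
    · rw [quasiIsoAt_iff_exactAt]
      · apply S.exactAt_succ
      · apply CochainComplex.exactAt_succ_single_obj⟩

theorem res_ι_f_zero (hJ : ∀ j, Injective (S.J j)) : (S.res hJ).ι.f 0 = S.ι 0 :=
  CochainComplex.fromSingle₀Equiv_symm_apply_f_zero _ _

/-- Morphisms of sequences. -/
structure Hom (S T : Seq A) where
  z : ∀ j, S.Z j ⟶ T.Z j
  jm : ∀ j, S.J j ⟶ T.J j
  comm_ι : ∀ j, S.ι j ≫ jm j = z j ≫ T.ι j
  comm_p : ∀ j, jm j ≫ T.p j = S.p j ≫ z (j + 1)

/-- The map of spliced complexes. -/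
noncomputable def Hom.cxMap {S T : Seq A} (f : Hom S T) : S.cx ⟶ T.cx where
  f := f.jm
  comm' i j hij := by
    obtain rfl : i + 1 = j := hij
    rw [cx_d, cx_d]
    refine (Category.assoc _ _ _).symm.trans ?_
    rw [f.comm_p, Category.assoc, ← f.comm_ι]
    exact (Category.assoc _ _ _).symm

variable {B : Type u'} [Category.{v'} B] [Abelian B] (F : A ⥤ B) [F.Additive]

/-- The image of the spliced complex. -/
noncomputable abbrev Fcx : CochainComplex B ℕ := (F.mapHomologicalComplex _).obj S.cx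

/-- The map to the cycles of the image. -/
noncomputable def toCyc (j : ℕ) : F.obj (S.Z j) ⟶ (S.Fcx F).cycles j :=
  (S.Fcx F).liftCycles (F.map (S.ι j)) (j + 1) (by simp) (by
    change F.map (S.ι j) ≫ F.map (S.cx.d j (j + 1)) = 0
    rw [← F.map_comp, S.ι_d, F.map_zero])

theorem toCyc_iCycles (j : ℕ) : S.toCyc F j ≫ (S.Fcx F).iCycles j = F.map (S.ι j) :=
  HomologicalComplex.liftCycles_i _ _ _ _ _

theorem toCycles_eq (j : ℕ) : (S.Fcx F).toCycles j (j + 1) = F.map (S.p j) ≫ S.toCyc F (j + 1) := by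
  rw [← cancel_mono ((S.Fcx F).iCycles (j + 1)), Category.assoc, toCyc_iCycles,
    HomologicalComplex.toCycles_i, ← F.map_comp, ← cx_d]
  rfl

theorem toCyc_naturality {S T : Seq A} (f : Hom S T) (j : ℕ) :
    S.toCyc F j ≫ HomologicalComplex.cyclesMap ((F.mapHomologicalComplex _).map f.cxMap) j =
      F.map (f.z j) ≫ T.toCyc F j := by
  rw [← cancel_mono ((T.Fcx F).iCycles j), Category.assoc, HomologicalComplex.cyclesMap_i, Category.assoc,
    toCyc_iCycles, ← Category.assoc, toCyc_iCycles, ← F.map_comp, ← f.comm_ι, F.map_comp]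
  rfl

variable [PreservesFiniteLimits F]

instance isIso_toCyc (j : ℕ) : IsIso (S.toCyc F j) := by
  have hm : Mono (F.map (S.ι j)) := inferInstance
  have : Mono ((ShortComplex.mk (S.ι j) (S.cx.d j (j + 1)) (S.ι_d j)).map F).f := hm
  have hex : ((ShortComplex.mk (S.ι j) (S.cx.d j (j + 1)) (S.ι_d j)).map F).Exact :=
    (S.exact_ι_d j).map_of_mono_of_preservesKernel F (S.mono_ι j) inferInstance
  let l := hex.fIsKernel.lift (KernelFork.ofι ((S.Fcx F).iCycles j) ((S.Fcx F).iCycles_d j (j + 1)))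
  have hl : l ≫ F.map (S.ι j) = (S.Fcx F).iCycles j := Fork.IsLimit.lift_ι hex.fIsKernel
  refine ⟨l, ?_, ?_⟩
  · rw [← cancel_mono (F.map (S.ι j)), Category.assoc, hl, toCyc_iCycles, Category.id_comp]
  · rw [← cancel_mono ((S.Fcx F).iCycles j), Category.assoc, toCyc_iCycles, hl, Category.id_comp]

variable [HasInjectiveResolutions A] (hJ : ∀ j, Injective (S.J j))

/-- The connecting map to the derived functor of the first object. -/
noncomputable def q (j : ℕ) : F.obj (S.Z j) ⟶ (F.rightDerived j).obj (S.Z 0) :=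
  S.toCyc F j ≫ (S.Fcx F).homologyπ j ≫ ((S.res hJ).isoRightDerivedObj F j).inv

instance epi_q (j : ℕ) : Epi (S.q F hJ j) := by
  unfold q
  have : Epi (((S.Fcx F).homologyπ j)) := inferInstance
  have : Epi ((S.Fcx F).homologyπ j ≫ ((S.res hJ).isoRightDerivedObj F j).inv) := epi_comp _ _
  exact epi_comp _ _

omit [PreservesFiniteLimits F] in
theorem p_q (j : ℕ) : F.map (S.p j) ≫ S.q F hJ (j + 1) = 0 := by
  unfold q
  rw [← Category.assoc, ← toCycles_eq, ← Category.assoc, HomologicalComplex.toCycles_comp_homologyπ, zero_comp]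

theorem exact_q (j : ℕ) : (ShortComplex.mk _ _ (S.p_q F hJ j)).Exact := by
  have h := (ShortComplex.mk _ _ ((S.Fcx F).toCycles_comp_homologyπ j (j + 1))).exact_of_g_is_cokernel
    ((S.Fcx F).homologyIsCokernel j (j + 1) (by simp))
  refine (ShortComplex.exact_iff_of_iso ?_).1 h
  refine ShortComplex.isoMk (Iso.refl _) (asIso (S.toCyc F (j + 1))).symm
    ((S.res hJ).isoRightDerivedObj F (j + 1)).symm ?_ ?_
  · simp only [Iso.refl_hom, Category.id_comp, Iso.symm_hom, asIso_inv]
    rw [toCycles_eq, Category.assoc, IsIso.hom_inv_id]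
    exact (Category.comp_id _).symm
  · simp [q]

theorem isIso_q_zero : IsIso (S.q F hJ 0) := by
  have : IsIso ((S.Fcx F).homologyπ 0) :=
    (S.Fcx F).isIso_homologyπ 0 0 (by simp) (by simp)
  unfold q
  infer_instance

omit [PreservesFiniteLimits F] in
theorem q_naturality {S T : Seq A} (hS : ∀ j, Injective (S.J j)) (hT : ∀ j, Injective (T.J j))
    (f : Hom S T) (j : ℕ) :
    F.map (f.z j) ≫ T.q F hT j = S.q F hS j ≫ (F.rightDerived j).map (f.z 0) := by
  have h := InjectiveResolution.isoRightDerivedObj_inv_naturality (f.z 0) (S.res hS) (T.res hT) f.cxMap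
    (by rw [res_ι_f_zero, res_ι_f_zero]; exact f.comm_ι 0) F j
  unfold q
  rw [← Category.assoc, ← toCyc_naturality, Category.assoc, Category.assoc, Category.assoc, h,
    Functor.comp_map, HomologicalComplex.homologyFunctor_map]
  erw [← HomologicalComplex.homologyπ_naturality_assoc]

include hJ in
theorem epi_map_p (j : ℕ) (h : IsZero ((F.rightDerived (j + 1)).obj (S.Z 0))) : Epi (F.map (S.p j)) :=
  (S.exact_q F hJ j).epi_f (h.eq_of_tgt _ _)

include hJ in
theorem isZero_of_epi_map_p (j : ℕ) [Epi (F.map (S.p j))] : IsZero ((F.rightDerived (j + 1)).obj (S.Z 0)) :=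
  IsZero.of_epi_eq_zero (S.q F hJ (j + 1))
    (by rw [← cancel_epi (F.map (S.p j)), S.p_q F hJ j, comp_zero])

include hJ in
/-- Shifting the dimension along the sequence. -/
theorem isZero_shift (k j : ℕ) :
    IsZero ((F.rightDerived (j + 1)).obj (S.Z k)) ↔ IsZero ((F.rightDerived (k + j + 1)).obj (S.Z 0)) := by
  constructor <;> intro h
  · have : Epi (F.map (S.p (k + j))) := (S.shift k).epi_map_p F (fun _ => hJ _) j h
    exact S.isZero_of_epi_map_p F hJ (k + j)
  · have : Epi (F.map ((S.shift k).p j)) := S.epi_map_p F hJ (k + j) h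
    exact (S.shift k).isZero_of_epi_map_p F (fun _ => hJ _) j

end Seq

end Groth.L10.CdDim
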