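import Mathlib.CategoryTheory.Abelian.Refinements
import Mathlib.Algebra.Homology.Refinements
import Mathlib.Algebra.Homology.QuasiIso
import Mathlib.Algebra.Homology.HomotopyCategory
import Mathlib.Algebra.Homology.HomologicalComplexAbelian
import Mathlib.CategoryTheory.Abelian.Exact
import Mathlib.Data.ENat.Basic
import Mathlib.CategoryTheory.Functor.OfSequence

/-! Replacing the terms of a complex by objects of dimension zero, variable bound. -/

universe v u

open CategoryTheory CategoryTheory.Limits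

set_option backward.defeqAttrib.useBackward true
set_option backward.isDefEq.respectTransparency false
namespace Groth.L10.CdDim.VarBound

variable {A : Type u} [Category.{v} A] [Abelian A]

variable (E : A → A) (e : ∀ X, X ⟶ E X) [he : ∀ X, Mono (e X)] (K : CochainComplex A ℤ)

/-- The embedding. -/
noncomputable def φ (a b : ℤ) : K.X a ⟶ E (K.X a) ⊞ E (K.X b) :=
  biprod.lift (e _) (K.d a b ≫ e _)

/-- The terms of the new complex. -/
noncomputable def Q (a b : ℤ) : A := cokernel (φ E e K a b)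

/-- The projection. -/
noncomputable def qπ (a b : ℤ) : E (K.X a) ⊞ E (K.X b) ⟶ Q E e K a b := cokernel.π _

instance (a b : ℤ) : Epi (qπ E e K a b) := inferInstanceAs (Epi (cokernel.π _))

theorem φ_qπ (a b : ℤ) : φ E e K a b ≫ qπ E e K a b = 0 := cokernel.condition _

theorem e_inl (a b : ℤ) :
    e (K.X a) ≫ biprod.inl ≫ qπ E e K a b + K.d a b ≫ e (K.X b) ≫ biprod.inr ≫ qπ E e K a b = 0 := by
  have h := φ_qπ E e K a b
  rwa [φ, biprod.lift_eq, Preadditive.add_comp, Category.assoc, Category.assoc, Category.assoc] at h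

instance mono_φ (a b : ℤ) : Mono (φ E e K a b) :=
  mono_of_mono_fac (biprod.lift_fst (e (K.X a)) (K.d a b ≫ e _))

theorem shortExact (a b : ℤ) :
    (ShortComplex.mk (φ E e K a b) (qπ E e K a b) (φ_qπ E e K a b)).ShortExact where
  exact := ShortComplex.exact_of_g_is_cokernel _ (cokernelIsCokernel (φ E e K a b))
  mono_f := inferInstanceAs (Mono (φ E e K a b))
  epi_g := inferInstanceAs (Epi (qπ E e K a b))

theorem D_aux (a b c : ℤ) :
    φ E e K a b ≫ (-(biprod.snd ≫ biprod.inl ≫ qπ E e K b c)) = 0 := by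
  have h := eq_neg_of_add_eq_zero_left (e_inl E e K b c)
  rw [Preadditive.comp_neg, φ, biprod.lift_snd_assoc, Category.assoc, h]
  simp

/-- The differential. -/
noncomputable def D (a b b' c : ℤ) (h : b = b') : Q E e K a b ⟶ Q E e K b' c :=
  cokernel.desc _ (-(biprod.snd ≫ biprod.inl ≫ qπ E e K b c)) (D_aux E e K a b c) ≫
    eqToHom (by rw [h])

theorem qπ_D (a b c : ℤ) : qπ E e K a b ≫ D E e K a b b c rfl = -(biprod.snd ≫ biprod.inl ≫ qπ E e K b c) := by
  simp [qπ, D]

theorem D_D (a b b' c c' d : ℤ) (h : b = b') (h' : c = c') :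
    D E e K a b b' c h ≫ D E e K b' c c' d h' = 0 := by
  subst h h'
  rw [← cancel_epi (qπ E e K a b), reassoc_of% (qπ_D E e K a b c), comp_zero]
  simp [qπ_D]

/-- The unit. -/
noncomputable def ψ (a b : ℤ) : K.X b ⟶ Q E e K a b := e _ ≫ biprod.inr ≫ qπ E e K a b

theorem ψ_D (a b b' c : ℤ) (h : b = b') : ψ E e K a b ≫ D E e K a b b' c h = K.d b c ≫ ψ E e K b' c := by
  subst h
  simp only [ψ, Category.assoc, qπ_D, Preadditive.comp_neg, biprod.inr_snd_assoc]
  exact neg_eq_of_add_eq_zero_right (e_inl E e K b c)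

theorem surj_ref (a b b' c c' d : ℤ) (h : b = b') (h' : c = c') {W : A} (z : W ⟶ Q E e K b' c)
    (hz : z ≫ D E e K b' c c' d h' = 0) :
    ∃ (W' : A) (p : W' ⟶ W) (_ : Epi p) (x : W' ⟶ K.X c) (_ : x ≫ K.d c d = 0) (y : W' ⟶ Q E e K a b),
      p ≫ z = x ≫ ψ E e K b' c + y ≫ D E e K a b b' c h := by
  subst h h'
  obtain ⟨W₁, p₁, _, l, hl⟩ := surjective_up_to_refinements_of_epi (qπ E e K b c) z
  have h1 : (l ≫ (-(biprod.snd ≫ biprod.inl))) ≫ qπ E e K c d = 0 := by
    have := congrArg (p₁ ≫ ·) hz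
    simp only [comp_zero, ← Category.assoc, hl] at this
    rw [Category.assoc, qπ_D] at this
    simpa using this
  obtain ⟨W₂, p₂, _, w, hw : p₂ ≫ l ≫ (-(biprod.snd ≫ biprod.inl)) = w ≫ φ E e K c d⟩ :=
    (shortExact E e K c d).exact.exact_up_to_refinements _ h1
  have hw₁ : w ≫ e (K.X c) = -(p₂ ≫ l ≫ biprod.snd) := by
    have := congrArg (· ≫ biprod.fst) hw
    simp [φ] at this
    exact this.symm
  have hw₂ : w ≫ K.d c d = 0 := by
    have := congrArg (· ≫ biprod.snd) hw
    simp [φ] at this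
    exact zero_of_comp_mono (e (K.X d)) (by rw [Category.assoc]; exact this.symm)
  refine ⟨W₂, p₂ ≫ p₁, inferInstance, -w, by rw [Preadditive.neg_comp, hw₂, neg_zero],
    -((p₂ ≫ l ≫ biprod.fst) ≫ biprod.inr ≫ qπ E e K a b), ?_⟩
  rw [Category.assoc, hl, ψ, Preadditive.neg_comp, Preadditive.neg_comp, reassoc_of% hw₁]
  simp only [Category.assoc, qπ_D, Preadditive.comp_neg, biprod.inr_snd_assoc, Preadditive.neg_comp, neg_neg]
  conv_lhs => rw [← Category.id_comp (qπ E e K b c), ← biprod.total]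
  simp only [Preadditive.add_comp, Preadditive.comp_add, Category.assoc]
  abel

theorem inj_ref (a b b' c : ℤ) (h : b = b') {W : A} (x : W ⟶ K.X c) (y : W ⟶ Q E e K a b)
    (hy : x ≫ ψ E e K b' c = y ≫ D E e K a b b' c h) :
    ∃ (W' : A) (p : W' ⟶ W) (_ : Epi p) (w : W' ⟶ K.X b'), p ≫ x = w ≫ K.d b' c := by
  subst h
  obtain ⟨W₁, p₁, _, l, hl⟩ := surjective_up_to_refinements_of_epi (qπ E e K a b) y
  have h1 : (p₁ ≫ x ≫ e _ ≫ biprod.inr + l ≫ biprod.snd ≫ biprod.inl) ≫ qπ E e K b c = 0 := by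
    have := congrArg (p₁ ≫ ·) hy
    simp only [ψ, reassoc_of% hl, qπ_D, Preadditive.comp_neg] at this
    simp only [Preadditive.add_comp, Category.assoc, this]
    simp
  obtain ⟨W₂, p₂, _, w, hw : p₂ ≫ _ = w ≫ φ E e K b c⟩ :=
    (shortExact E e K b c).exact.exact_up_to_refinements _ h1
  refine ⟨W₂, p₂ ≫ p₁, inferInstance, w, ?_⟩
  have := congrArg (· ≫ biprod.snd) hw
  simp [φ] at this
  exact (cancel_mono (e (K.X c))).1 (by simpa using this)

theorem isIso_ψ (a b : ℤ) (ha : IsIso (e (K.X a))) (hb : IsIso (e (K.X b))) : IsIso (ψ E e K a b) := by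
  have : Mono (ψ E e K a b) := Preadditive.mono_of_cancel_zero _ fun {W} y hy => by
    have h1 : (y ≫ e _ ≫ biprod.inr) ≫ qπ E e K a b = 0 := by simpa [ψ] using hy
    obtain ⟨W', p, _, w, hw : p ≫ _ = w ≫ φ E e K a b⟩ :=
      (shortExact E e K a b).exact.exact_up_to_refinements _ h1
    have e1 := congrArg (· ≫ biprod.fst) hw
    have e2 := congrArg (· ≫ biprod.snd) hw
    simp [φ] at e1 e2
    have hw0 : w = 0 := zero_of_comp_mono (e (K.X a)) e1.symm
    rw [hw0] at e2
    simp at e2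
    exact zero_of_epi_comp p (zero_of_comp_mono (e (K.X b)) (by simpa using e2))
  have : Epi (ψ E e K a b) := Preadditive.epi_of_cancel_zero _ fun {W} g hg => by
    simp only [ψ, Category.assoc] at hg
    have h2 : biprod.inr ≫ qπ E e K a b ≫ g = 0 := zero_of_epi_comp (e (K.X b)) hg
    have h1 : biprod.inl ≫ qπ E e K a b ≫ g = 0 := zero_of_epi_comp (e (K.X a)) (by
      have := congrArg (· ≫ g) (e_inl E e K a b)
      simpa [hg] using this)
    exact zero_of_epi_comp (qπ E e K a b) (biprod.hom_ext' _ _ (by simpa using h1) (by simpa using h2))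
  exact isIso_of_mono_of_epi _

/-- The new complex. -/
noncomputable def step : CochainComplex A ℤ :=
  CochainComplex.of (fun n => Q E e K (n - 1) n) (fun n => D E e K (n - 1) n (n + 1 - 1) (n + 1) (by omega))
    (fun n => D_D E e K _ _ _ _ _ _ _ _)

theorem step_d (i j : ℤ) (hij : i + 1 = j) :
    (step E e K).d i j = D E e K (i - 1) i (j - 1) j (by omega) := by
  subst hij
  simp [step]

/-- The map to the new complex. -/
noncomputable def unit : K ⟶ step E e K where
  f n := ψ E e K (n - 1) n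
  comm' i j hij := by
    rw [step_d E e K i j hij]
    obtain rfl : i = j - 1 := by simp [ComplexShape.up] at hij; omega
    exact ψ_D E e K _ _ _ _ rfl

theorem quasiIso_unit : QuasiIso (unit E e K) := by
  constructor
  intro n
  rw [quasiIsoAt_iff_isIso_homologyMap]
  have h1 : Mono (HomologicalComplex.homologyMap (unit E e K) n) := by
    rw [HomologicalComplex.mono_homologyMap_iff_up_to_refinements _ (n - 1) n (n + 1) (by simp) (by simp)]
    intro W x _ y hy
    rw [step_d E e K (n - 1) n (by omega)] at hy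
    obtain ⟨W', p, hp, w, hw⟩ := inj_ref E e K (n - 1 - 1) (n - 1) (n - 1) n rfl x y hy
    exact ⟨W', p, hp, w, hw⟩
  have h2 : Epi (HomologicalComplex.homologyMap (unit E e K) n) := by
    rw [HomologicalComplex.epi_homologyMap_iff_up_to_refinements _ (n - 1) n (n + 1) (by simp) (by simp)]
    intro W z hz
    rw [step_d E e K n (n + 1) rfl] at hz
    obtain ⟨W', p, hp, x, hx, y, hy⟩ :=
      surj_ref E e K (n - 1 - 1) (n - 1) (n - 1) n (n + 1 - 1) (n + 1) rfl (by omega) z hz
    refine ⟨W', p, hp, x, hx, y, ?_⟩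
    rw [step_d E e K (n - 1) n (by omega)]
    exact hy
  exact isIso_of_mono_of_epi _

variable (d : A → ℕ∞)

theorem d_step_le (hE : ∀ X, d (E X) = 0) (h2 : ∀ X Y : A, d (X ⊞ Y) ≤ max (d X) (d Y))
    (h3 : ∀ S : ShortComplex A, S.ShortExact → d S.X₃ ≤ max (d S.X₁ - 1) (d S.X₂)) (n : ℤ) :
    d ((step E e K).X n) ≤ d (K.X (n - 1)) - 1 := by
  refine (h3 _ (shortExact E e K (n - 1) n)).trans (max_le le_rfl ?_)
  refine (h2 _ _).trans ?_
  simp [hE]

section Seq

/-- The iterated complexes. -/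
noncomputable def Kc : ℕ → CochainComplex A ℤ
  | 0 => K
  | i + 1 => step E e (Kc i)

/-- The sequence of complexes. -/
noncomputable def F : ℕ ⥤ CochainComplex A ℤ :=
  Functor.ofSequence (X := Kc E e K) (fun i => unit E e (Kc E e K i))

theorem F_succ (j : ℕ) : (F E e K).map (homOfLE (Nat.le_succ j)) = unit E e (Kc E e K j) :=
  Functor.ofSequence_map_homOfLE_succ _ j

theorem quasiIso_F {i j : ℕ} (h : i ≤ j) : QuasiIso ((F E e K).map (homOfLE h)) := by
  induction j, h using Nat.le_induction with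
  | base => rw [show homOfLE (le_refl i) = 𝟙 i from Subsingleton.elim _ _, CategoryTheory.Functor.map_id]; infer_instance
  | succ j hj ih =>
    rw [← homOfLE_comp hj (Nat.le_succ j), Functor.map_comp, F_succ]
    have := quasiIso_unit E e (Kc E e K j)
    exact quasiIso_comp _ _

variable (M : ℤ → ℕ) (hM : ∀ n i, M n ≤ i → IsIso ((unit E e (Kc E e K i)).f n))

include hM in
theorem isIso_F (n : ℤ) {i j : ℕ} (hi : M n ≤ i) (h : i ≤ j) :
    IsIso (((F E e K).map (homOfLE h)).f n) := by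
  induction j, h using Nat.le_induction with
  | base => rw [show homOfLE (le_refl i) = 𝟙 i from Subsingleton.elim _ _, CategoryTheory.Functor.map_id, HomologicalComplex.id_f]; infer_instance
  | succ j hj ih =>
    rw [← homOfLE_comp hj (Nat.le_succ j), Functor.map_comp, HomologicalComplex.comp_f, F_succ]
    have := hM n j (hi.trans hj)
    exact IsIso.comp_isIso

/-- The comparison with a late stage. -/
noncomputable def κ (n : ℤ) (i : ℕ) (hi : M n ≤ i) :
    (Kc E e K (M n)).X n ≅ (Kc E e K i).X n :=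
  haveI := isIso_F E e K M hM n le_rfl hi
  asIso (((F E e K).map (homOfLE hi)).f n)

/-- The differential of the limit. -/
noncomputable def Ld (a b : ℤ) : (Kc E e K (M a)).X a ⟶ (Kc E e K (M b)).X b :=
  (κ E e K M hM a (max (M a) (M b)) (le_max_left _ _)).hom ≫ (Kc E e K _).d a b ≫
    (κ E e K M hM b (max (M a) (M b)) (le_max_right _ _)).inv

theorem F_trans {i j k : ℕ} (h : i ≤ j) (h' : j ≤ k) (n : ℤ) :
    ((F E e K).map (homOfLE h)).f n ≫ ((F E e K).map (homOfLE h')).f n =
      ((F E e K).map (homOfLE (h.trans h'))).f n := by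
  rw [← HomologicalComplex.comp_f, ← Functor.map_comp, homOfLE_comp]

theorem Ld_κ (a b : ℤ) (i : ℕ) (ha : M a ≤ i) (hb : M b ≤ i) :
    Ld E e K M hM a b ≫ (κ E e K M hM b i hb).hom =
      (κ E e K M hM a i ha).hom ≫ (Kc E e K i).d a b := by
  have hm : max (M a) (M b) ≤ i := max_le ha hb
  have e1 : ∀ n (hn : M n ≤ max (M a) (M b)) (hn' : M n ≤ i),
      (κ E e K M hM n _ hn).hom ≫ ((F E e K).map (homOfLE hm)).f n = (κ E e K M hM n i hn').hom :=
    fun n hn hn' => F_trans E e K hn hm n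
  rw [Ld, ← e1 a (le_max_left _ _) ha, ← e1 b (le_max_right _ _) hb]
  simp only [Category.assoc, Iso.inv_hom_id_assoc]
  congr 1
  exact (((F E e K).map (homOfLE hm)).comm a b).symm

/-- The limit complex. -/
noncomputable def L : CochainComplex A ℤ where
  X n := (Kc E e K (M n)).X n
  d := Ld E e K M hM
  shape a b hab := by rw [Ld, HomologicalComplex.shape _ _ _ hab, zero_comp, comp_zero]
  d_comp_d' a b c _ _ := by
    let i := max (max (M a) (M b)) (M c)
    rw [← cancel_mono (κ E e K M hM c i (le_max_right _ _)).hom, Category.assoc,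
      Ld_κ E e K M hM b c i ((le_max_right _ _).trans (le_max_left _ _)),
      reassoc_of% (Ld_κ E e K M hM a b i ((le_max_left _ _).trans (le_max_left _ _))
        ((le_max_right _ _).trans (le_max_left _ _))),
      HomologicalComplex.d_comp_d, comp_zero, zero_comp]

/-- The map to the limit complex. -/
noncomputable def toL : K ⟶ L E e K M hM where
  f n := ((F E e K).map (homOfLE (Nat.zero_le (M n)))).f n
  comm' a b _ := by
    let i := max (M a) (M b)
    rw [← cancel_mono (κ E e K M hM b i (le_max_right _ _)).hom, Category.assoc, Category.assoc]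
    erw [Ld_κ E e K M hM a b i (le_max_left _ _) (le_max_right _ _)]
    have e2 : ∀ n (hn : M n ≤ i),
        ((F E e K).map (homOfLE (Nat.zero_le (M n)))).f n ≫ (κ E e K M hM n i hn).hom =
          ((F E e K).map (homOfLE (Nat.zero_le i))).f n :=
      fun n hn => F_trans E e K _ hn n
    rw [reassoc_of% (e2 a (le_max_left _ _)), e2 b (le_max_right _ _)]
    exact ((F E e K).map (homOfLE (Nat.zero_le i))).comm a b

theorem quasiIso_toL : QuasiIso (toL E e K M hM) := by
  constructor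
  intro n
  let i := max (max (M (n - 1)) (M n)) (M (n + 1))
  have ha : M (n - 1) ≤ i := (le_max_left _ _).trans (le_max_left _ _)
  have hb : M n ≤ i := (le_max_right _ _).trans (le_max_left _ _)
  have hc : M (n + 1) ≤ i := le_max_right _ _
  rw [quasiIsoAt_iff' _ (n - 1) n (n + 1) (by simp) (by simp)]
  let u : (L E e K M hM).sc' (n - 1) n (n + 1) ≅ (Kc E e K i).sc' (n - 1) n (n + 1) :=
    ShortComplex.isoMk (κ E e K M hM _ i ha) (κ E e K M hM _ i hb) (κ E e K M hM _ i hc)
      (Ld_κ E e K M hM _ _ i ha hb).symm (Ld_κ E e K M hM _ _ i hb hc).symm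
  let ψ' := (HomologicalComplex.shortComplexFunctor' A (ComplexShape.up ℤ) (n - 1) n (n + 1)).map
    (toL E e K M hM)
  have hcomp : ψ' ≫ u.hom =
      (HomologicalComplex.shortComplexFunctor' A (ComplexShape.up ℤ) (n - 1) n (n + 1)).map
        ((F E e K).map (homOfLE (Nat.zero_le i))) := by
    apply ShortComplex.Hom.ext <;> exact F_trans E e K _ _ _
  have hq := quasiIso_F E e K (Nat.zero_le i)
  have h1 := (quasiIsoAt_iff' ((F E e K).map (homOfLE (Nat.zero_le i))) (n - 1) n (n + 1) (by simp) (by simp)).1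
    (hq.quasiIsoAt n)
  rw [← hcomp] at h1
  exact (ShortComplex.quasiIso_iff_comp_right ψ' u.hom).1 h1

end Seq

include d in
theorem exists_qis (h1 : ∀ X : A, ∃ (Y : A) (ι : X ⟶ Y), Mono ι ∧ d Y = 0)
    (h2 : ∀ X Y : A, d (X ⊞ Y) ≤ max (d X) (d Y))
    (h3 : ∀ S : ShortComplex A, S.ShortExact → d S.X₃ ≤ max (d S.X₁ - 1) (d S.X₂))
    (hK : ∀ m : ℤ, ∃ N : ℤ, ∀ n : ℤ, n ≤ N → ∃ k : ℕ, d (K.X n) = k ∧ n + k ≤ m) :
    ∃ (L : CochainComplex A ℤ) (f : K ⟶ L), QuasiIso f ∧ ∀ n, d (L.X n) = 0 := by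
  classical
  have h1' : ∀ X : A, ∃ (Y : A) (ι : X ⟶ Y), Mono ι ∧ d Y = 0 ∧ (d X = 0 → IsIso ι) := fun X => by
    by_cases hX : d X = 0
    · exact ⟨X, 𝟙 X, inferInstance, hX, fun _ => inferInstance⟩
    · obtain ⟨Y, ι, hι, hY⟩ := h1 X
      exact ⟨Y, ι, hι, hY, fun h => absurd h hX⟩
  choose E e he' hE hiso using h1'
  let Kc' := Kc E e K
  have hD : ∀ (i : ℕ) (n : ℤ), d ((Kc E e K i).X n) ≤ d (K.X (n - i)) - i := by
    intro i
    induction i with
    | zero => simp [Kc]
    | succ i ih =>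
      intro n
      refine (d_step_le E e _ d hE h2 h3 n).trans ((tsub_le_tsub_right (ih (n - 1)) 1).trans ?_)
      rw [tsub_tsub, Nat.cast_succ, Nat.cast_succ, show n - 1 - (i : ℤ) = n - ((i : ℤ) + 1) by omega]
  have hN : ∀ n : ℤ, ∃ M : ℕ, ∀ i, M ≤ i → d ((Kc E e K i).X n) = 0 ∧ d ((Kc E e K i).X (n - 1)) = 0 := by
    intro n
    obtain ⟨N, hN⟩ := hK (n - 1)
    refine ⟨(n - N).toNat, fun i hi => ?_⟩
    have aux : ∀ m : ℤ, n - 1 ≤ m → m - i ≤ N → d ((Kc E e K i).X m) = 0 := fun m hm hmi => by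
      obtain ⟨k, hk, hk'⟩ := hN (m - i) hmi
      refine nonpos_iff_eq_zero.1 ((hD i m).trans ?_)
      rw [hk, tsub_le_iff_right, zero_add]
      exact_mod_cast (show k ≤ i by omega)
    exact ⟨aux n (by omega) (by omega), aux (n - 1) (by omega) (by omega)⟩
  choose M hM using hN
  have hMiso : ∀ n i, M n ≤ i → IsIso ((unit E e (Kc E e K i)).f n) := fun n i hi =>
    isIso_ψ E e _ (n - 1) n (hiso _ (hM n i hi).2) (hiso _ (hM n i hi).1)
  exact ⟨L E e K M hMiso, toL E e K M hMiso, quasiIso_toL E e K M hMiso, fun n => (hM n (M n) le_rfl).1⟩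

end Groth.L10.CdDim.VarBound
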